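import Groth.Agent.HTopLib.Thick
import Groth.Agent.BlowUp.Basic
import Groth.Agent.LimLib.Props
import Groth.Prelude.Def_HTop3
import Mathlib.AlgebraicGeometry.Morphisms.Finite

/-!
# Sheaves for topologies with proper pair coverings turn blow up squares into cartesian squares
-/

set_option autoImplicit false
set_option linter.style.haveILetI false

universe w u

open CategoryTheory CategoryTheory.Limits AlgebraicGeometry Topology TopologicalSpace Opposite

namespace Groth.Agent.HTopLib

variable {X A B : Scheme.{u}}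

/-- The two-member family of `a` and `b`. -/
def pairFamily (a : A ⟶ X) (b : B ⟶ X) : PreZeroHypercover.{0} X :=
  ⟨Bool, fun t => Bool.casesOn t A B, fun t => match t with | false => a | true => b⟩

set_option backward.isDefEq.respectTransparency false in
theorem isProper_coprodDesc (a : A ⟶ X) (b : B ⟶ X) [IsProper a] [IsProper b] :
    IsProper (coprod.desc a b) := by
  have h : coprod.map a b ≫ coprod.desc (𝟙 X) (𝟙 X) = coprod.desc a b := by
    apply coprod.hom_ext <;> simp
  haveI : IsProper (coprod.map a b) :=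
    IsZariskiLocalAtTarget.coprodMap (P := @IsProper) a b ‹_› ‹_›
  haveI : IsFinite (coprod.desc (𝟙 X) (𝟙 X)) := inferInstance
  rw [← h]
  infer_instance

theorem exists_isStandardPh_pair [IsAffine X] (a : A ⟶ X) (b : B ⟶ X) [IsProper a] [IsProper b]
    (hcov : ∀ x : X, x ∈ Set.range a ∨ x ∈ Set.range b) :
    ∃ F : PreZeroHypercover.{0} X, HTop.IsStandardPh F ∧
      ∀ j, (∃ h : F.X j ⟶ A, h ≫ a = F.f j) ∨ (∃ h : F.X j ⟶ B, h ≫ b = F.f j) := by
  haveI : CompactSpace A := QuasiCompact.compactSpace_of_compactSpace a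
  haveI : CompactSpace B := QuasiCompact.compactSpace_of_compactSpace b
  obtain ⟨m, U, hU, hUc⟩ := exists_affine_cover A
  obtain ⟨n, V, hV, hVc⟩ := exists_affine_cover B
  let Xs : Fin m ⊕ Fin n → Scheme.{u} := Sum.elim (fun i => U i) fun j => V j
  let ι : ∀ k, Xs k ⟶ A ⨿ B := fun k => match k with
    | .inl i => (U i).ι ≫ coprod.inl
    | .inr j => (V j).ι ≫ coprod.inr
  haveI := isProper_coprodDesc a b
  haveI : Surjective (coprod.desc a b) := ⟨fun x => by
    rcases hcov x with ⟨y, rfl⟩ | ⟨y, rfl⟩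
    · exact ⟨(coprod.inl : A ⟶ A ⨿ B) y, by rw [← Scheme.Hom.comp_apply, coprod.inl_desc]⟩
    · exact ⟨(coprod.inr : B ⟶ A ⨿ B) y, by rw [← Scheme.Hom.comp_apply, coprod.inr_desc]⟩⟩
  refine ⟨⟨Fin m ⊕ Fin n, Xs, fun k => ι k ≫ coprod.desc a b⟩,
    ⟨inferInstance, inferInstanceAs (Finite (Fin m ⊕ Fin n)), ?_, A ⨿ B, coprod.desc a b, ι,
      ‹_›, ‹_›, ?_, fun k => rfl, fun x => ?_⟩, ?_⟩
  · rintro (i | j)
    · exact hU i
    · exact hV j
  · rintro (i | j)
    · exact inferInstanceAs (IsOpenImmersion ((U i).ι ≫ coprod.inl))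
    · exact inferInstanceAs (IsOpenImmersion ((V j).ι ≫ coprod.inr))
  · obtain ⟨k, y, rfl⟩ := (coprodOpenCover.{u, 0} A B).exists_eq x
    rcases k with ⟨⟨⟩⟩ | ⟨⟨⟩⟩
    · obtain ⟨i, hi⟩ := hUc y
      exact ⟨.inl i, ⟨y, hi⟩, rfl⟩
    · obtain ⟨j, hj⟩ := hVc y
      exact ⟨.inr j, ⟨y, hj⟩, rfl⟩
  · rintro (i | j)
    · exact Or.inl ⟨(U i).ι, by
        show _ = ((U i).ι ≫ coprod.inl) ≫ coprod.desc a b
        rw [Category.assoc, coprod.inl_desc]; rfl⟩
    · exact Or.inr ⟨(V j).ι, by
        show _ = ((V j).ι ≫ coprod.inr) ≫ coprod.desc a b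
        rw [Category.assoc, coprod.inr_desc]; rfl⟩

theorem exists_refining_pair (a : A ⟶ X) (b : B ⟶ X) [IsProper a] [IsProper b]
    (hcov : ∀ x : X, x ∈ Set.range a ∨ x ∈ Set.range b) (U : X.affineOpens) :
    ∃ F : PreZeroHypercover.{0} (U.1 : Scheme.{u}),
      HTop.IsStandardPh F ∧ HTop.RefinesOver U.1.ι F (pairFamily a b) := by
  haveI : IsAffine (U.1 : Scheme.{u}) := U.2
  haveI : IsProper (a ∣_ U.1) := IsZariskiLocalAtTarget.restrict (P := @IsProper) ‹_› _
  haveI : IsProper (b ∣_ U.1) := IsZariskiLocalAtTarget.restrict (P := @IsProper) ‹_› _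
  obtain ⟨F, hF, hfac⟩ := exists_isStandardPh_pair (a ∣_ U.1) (b ∣_ U.1) fun x => by
    rcases hcov x.1 with h | h <;> [left; right] <;>
    · obtain ⟨y, hy⟩ := h
      refine ⟨⟨y, show _ ∈ U.1 from hy ▸ x.2⟩, U.1.ι.isOpenEmbedding.injective ?_⟩
      first
        | exact (congrArg (fun m : (a ⁻¹ᵁ U.1).toScheme ⟶ X => m ⟨y, show _ ∈ U.1 from hy ▸ x.2⟩) (morphismRestrict_ι a U.1)).trans hy
        | exact (congrArg (fun m : (b ⁻¹ᵁ U.1).toScheme ⟶ X => m ⟨y, show _ ∈ U.1 from hy ▸ x.2⟩) (morphismRestrict_ι b U.1)).trans hy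
  refine ⟨F, hF, fun j => ?_⟩
  rcases hfac j with ⟨l, hl⟩ | ⟨l, hl⟩
  · refine ⟨(false : Bool), l ≫ (a ⁻¹ᵁ U.1).ι, ?_⟩
    show (l ≫ (a ⁻¹ᵁ U.1).ι) ≫ a = F.f j ≫ U.1.ι
    rw [Category.assoc, ← morphismRestrict_ι, reassoc_of% hl]
  · refine ⟨(true : Bool), l ≫ (b ⁻¹ᵁ U.1).ι, ?_⟩
    show (l ≫ (b ⁻¹ᵁ U.1).ι) ≫ b = F.f j ≫ U.1.ι
    rw [Category.assoc, ← morphismRestrict_ι, reassoc_of% hl]

theorem isPhCover_pair (a : A ⟶ X) (b : B ⟶ X) [IsProper a] [IsProper b]
    (hcov : ∀ x : X, x ∈ Set.range a ∨ x ∈ Set.range b) : HTop.IsPhCover (pairFamily a b) :=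
  ⟨fun t => match t with
    | false => inferInstanceAs (LocallyOfFiniteType a)
    | true => inferInstanceAs (LocallyOfFiniteType b),
   exists_refining_pair a b hcov⟩

theorem isHCover_pair (a : A ⟶ X) (b : B ⟶ X) [IsProper a] [IsProper b]
    [LocallyOfFinitePresentation a] [LocallyOfFinitePresentation b]
    (hcov : ∀ x : X, x ∈ Set.range a ∨ x ∈ Set.range b) : HTop.IsHCover (pairFamily a b) :=
  ⟨fun t => match t with
    | false => inferInstanceAs (LocallyOfFinitePresentation a)
    | true => inferInstanceAs (LocallyOfFinitePresentation b),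
   fun U => (exists_refining_pair a b hcov U).imp fun _ h => ⟨isStandardV_of_isStandardPh h.1, h.2⟩⟩

section Sheaf

variable {S : Scheme.{u}} (K : Precoverage Scheme.{u}) (Q : MorphismProperty Scheme.{u})
  (F : (Over S)ᵒᵖ ⥤ Type w) (hF : Presieve.IsSheaf (K.toGrothendieck.over S) F)
  (hK : ∀ {X A B : Scheme.{u}} (a : A ⟶ X) (b : B ⟶ X), IsProper a → IsProper b → Q a → Q b →
    (∀ x : X, x ∈ Set.range a ∨ x ∈ Set.range b) → (pairFamily a b).presieve₀ ∈ K X)

include hF hK in
theorem isSheafFor_pair {T T₁ T₂ : Over S} (a : T₁ ⟶ T) (b : T₂ ⟶ T) (ha : IsProper a.left)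
    (hb : IsProper b.left) (hQa : Q a.left) (hQb : Q b.left)
    (hcov : ∀ x : T.left, x ∈ Set.range a.left ∨ x ∈ Set.range b.left) :
    Presieve.IsSheafFor F (Sieve.generate (Presieve.singleton a ⊔ Presieve.singleton b)).arrows := by
  refine hF _ ?_
  rw [GrothendieckTopology.mem_over_iff, Sieve.overEquiv_generate]
  refine K.toGrothendieck.superset_covering ?_
    (K.generate_mem_toGrothendieck (hK a.left b.left ha hb hQa hQb hcov))
  rw [Sieve.generate_le_iff]
  rintro _ _ ⟨(_ | _)⟩
  · exact Sieve.le_generate _ _ _ ⟨T₁, a, 𝟙 _, Or.inl ⟨⟩, (Category.id_comp _).symm⟩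
  · exact Sieve.le_generate _ _ _ ⟨T₂, b, 𝟙 _, Or.inr ⟨⟩, (Category.id_comp _).symm⟩

include hF hK in
theorem ext_pair {T T₁ T₂ : Over S} (a : T₁ ⟶ T) (b : T₂ ⟶ T) (ha : IsProper a.left)
    (hb : IsProper b.left) (hQa : Q a.left) (hQb : Q b.left)
    (hcov : ∀ x : T.left, x ∈ Set.range a.left ∨ x ∈ Set.range b.left) {s₁ s₂ : F.obj (op T)}
    (h₁ : F.map a.op s₁ = F.map a.op s₂) (h₂ : F.map b.op s₁ = F.map b.op s₂) : s₁ = s₂ := by
  refine ((Presieve.isSheafFor_iff_generate _).mpr
    (isSheafFor_pair K Q F hF hK a b ha hb hQa hQb hcov)).isSeparatedFor.ext fun Y f hf => ?_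
  rcases hf with ⟨⟨⟩⟩ | ⟨⟨⟩⟩
  · exact h₁
  · exact h₂

set_option maxHeartbeats 800000 in
include hF hK in
/-- A square which is an isomorphism off its centre gives a cartesian square of sections. -/
theorem existsUnique_of_square [Q.IsStableUnderBaseChange] {E Z X' X : Over S} (e : E ⟶ X')
    (π : E ⟶ Z) (b : X' ⟶ X) (i : Z ⟶ X) [IsClosedImmersion i.left] [IsProper b.left]
    (hQi : Q i.left) (hQb : Q b.left) (hQΔ : Q (pullback.diagonal b.left))
    (hE : IsPullback e.left π.left b.left i.left)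
    (hiso : ∀ U : X.left.Opens, (U : Set X.left) = (Set.range i.left)ᶜ → IsIso (b.left ∣_ U))
    (t : F.obj (op Z)) (s' : F.obj (op X')) (hts : F.map π.op t = F.map e.op s') :
    ∃! s : F.obj (op X), F.map i.op s = t ∧ F.map b.op s = s' := by
  let U : X.left.Opens := ⟨(Set.range i.left)ᶜ, i.left.isClosedEmbedding.isClosed_range.isOpen_compl⟩
  haveI := hiso U rfl
  have hcov : ∀ x : X.left, x ∈ Set.range i.left ∨ x ∈ Set.range b.left := fun x => by
    by_cases hx : x ∈ Set.range i.left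
    · exact Or.inl hx
    · let u : U.toScheme := ⟨x, hx⟩
      have hu := congrArg (fun m : U.toScheme ⟶ X.left => m u)
        (show inv (b.left ∣_ U) ≫ (b.left ⁻¹ᵁ U).ι ≫ b.left = U.ι by
          rw [← morphismRestrict_ι, IsIso.inv_hom_id_assoc])
      exact Or.inr ⟨_, hu⟩
  -- lifting to the exceptional locus
  have hlift : ∀ {W : Over S} (p : W ⟶ Z) (q : W ⟶ X'), p ≫ i = q ≫ b →
      F.map p.op t = F.map q.op s' := by
    intro W p q hpq
    let l : W.left ⟶ E.left := hE.lift q.left p.left (congrArg (fun m => m.left) hpq).symm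
    have hlS : l ≫ E.hom = W.hom := by rw [← Over.w π, ← Category.assoc, hE.lift_snd, Over.w p]
    let L : W ⟶ E := Over.homMk l hlS
    have h₁ : L ≫ π = p := Over.OverMorphism.ext (hE.lift_snd _ _ _)
    have h₂ : L ≫ e = q := Over.OverMorphism.ext (hE.lift_fst _ _ _)
    rw [← h₁, ← h₂, op_comp, op_comp, Functor.map_comp, Functor.map_comp, ConcreteCategory.comp_apply,
      ConcreteCategory.comp_apply, hts]
  -- the two pullbacks of `s'` to `X' ×_X X'` agree
  have hself : ∀ {W : Over S} (q₁ q₂ : W ⟶ X'), q₁ ≫ b = q₂ ≫ b → F.map q₁.op s' = F.map q₂.op s' := by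
    intro W q₁ q₂ hq
    let P : Over S := Over.mk (pullback.fst b.left b.left ≫ X'.hom)
    let P₁ : P ⟶ X' := Over.homMk (pullback.fst b.left b.left) rfl
    let P₂ : P ⟶ X' := Over.homMk (pullback.snd b.left b.left) (by
      show pullback.snd b.left b.left ≫ X'.hom = pullback.fst b.left b.left ≫ X'.hom
      rw [← Over.w b, ← pullback.condition_assoc])
    suffices hP : F.map P₁.op s' = F.map P₂.op s' by
      let L : W ⟶ P := Over.homMk (pullback.lift q₁.left q₂.left (congrArg (fun m => m.left) hq))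
        (by show _ ≫ pullback.fst b.left b.left ≫ X'.hom = _; rw [pullback.lift_fst_assoc, Over.w q₁])
      have h₁ : L ≫ P₁ = q₁ := Over.OverMorphism.ext (pullback.lift_fst _ _ _)
      have h₂ : L ≫ P₂ = q₂ := Over.OverMorphism.ext (pullback.lift_snd _ _ _)
      rw [← h₁, ← h₂, op_comp, op_comp, Functor.map_comp, Functor.map_comp,
        ConcreteCategory.comp_apply, ConcreteCategory.comp_apply, hP]
    let c := pullback.fst b.left b.left ≫ b.left
    let N : Over S := Over.mk (pullback.fst c i.left ≫ P.hom)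
    let n : N ⟶ P := Over.homMk (pullback.fst c i.left) rfl
    let nZ : N ⟶ Z := Over.homMk (pullback.snd c i.left) (by
      show pullback.snd c i.left ≫ Z.hom = pullback.fst c i.left ≫ pullback.fst b.left b.left ≫ X'.hom
      rw [← Over.w i, ← Over.w b, ← pullback.condition_assoc, Category.assoc])
    let Δ : X' ⟶ P := Over.homMk (pullback.diagonal b.left) (by
      show pullback.diagonal b.left ≫ pullback.fst b.left b.left ≫ X'.hom = X'.hom
      rw [pullback.diagonal_fst_assoc])
    haveI : IsSeparated b.left := inferInstance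
    refine ext_pair K Q F hF hK Δ n (inferInstanceAs (IsProper (pullback.diagonal b.left)))
      (inferInstanceAs (IsProper (pullback.fst c i.left))) hQΔ (MorphismProperty.pullback_fst _ _ hQi)
      (fun z => ?_) ?_ ?_
    · let z' : ↥(pullback b.left b.left) := z
      by_cases hz : c z' ∈ Set.range i.left
      · obtain ⟨v, hv⟩ := hz
        obtain ⟨w, hw, -⟩ := Scheme.Pullback.exists_preimage_pullback (f := c) (g := i.left) z' v hv.symm
        exact Or.inr ⟨w, hw⟩
      · refine Or.inl ⟨pullback.fst b.left b.left z', ?_⟩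
        show pullback.diagonal b.left (pullback.fst b.left b.left z') = z'
        let O : (pullback b.left b.left).Opens := c ⁻¹ᵁ U
        have hO : O.ι ≫ pullback.fst b.left b.left = O.ι ≫ pullback.snd b.left b.left := by
          have hr₁ : Set.range (O.ι ≫ pullback.fst b.left b.left) ⊆ Set.range (b.left ⁻¹ᵁ U).ι := by
            rintro _ ⟨y, rfl⟩
            rw [Scheme.Opens.range_ι]
            exact y.2
          have hr₂ : Set.range (O.ι ≫ pullback.snd b.left b.left) ⊆ Set.range (b.left ⁻¹ᵁ U).ι := by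
            rintro _ ⟨y, rfl⟩
            rw [Scheme.Opens.range_ι]
            show b.left (pullback.snd b.left b.left _) ∈ U
            rw [← Scheme.Hom.comp_apply, ← pullback.condition]
            exact y.2
          have e₁ := IsOpenImmersion.lift_fac (b.left ⁻¹ᵁ U).ι _ hr₁
          have e₂ := IsOpenImmersion.lift_fac (b.left ⁻¹ᵁ U).ι _ hr₂
          have heq : IsOpenImmersion.lift _ _ hr₁ = IsOpenImmersion.lift _ _ hr₂ := by
            rw [← cancel_mono (b.left ∣_ U), ← cancel_mono U.ι, Category.assoc, Category.assoc,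
              morphismRestrict_ι, reassoc_of% e₁, reassoc_of% e₂, pullback.condition]
          rw [← e₁, ← e₂, heq]
        have : (O.ι ≫ pullback.fst b.left b.left) ≫ pullback.diagonal b.left = O.ι := by
          refine pullback.hom_ext ?_ ?_
          · simp only [Category.assoc, pullback.diagonal_fst, Category.comp_id]
          · simp only [Category.assoc, pullback.diagonal_snd, Category.comp_id, hO]
        exact congrArg (fun m : O.toScheme ⟶ pullback b.left b.left => m ⟨z', hz⟩) this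
    · have h₁ : Δ ≫ P₁ = 𝟙 X' := Over.OverMorphism.ext (pullback.diagonal_fst _)
      have h₂ : Δ ≫ P₂ = 𝟙 X' := Over.OverMorphism.ext (pullback.diagonal_snd _)
      rw [← ConcreteCategory.comp_apply, ← ConcreteCategory.comp_apply, ← Functor.map_comp,
        ← Functor.map_comp, ← op_comp, ← op_comp, h₁, h₂]
    · rw [← ConcreteCategory.comp_apply, ← ConcreteCategory.comp_apply, ← Functor.map_comp,
        ← Functor.map_comp, ← op_comp, ← op_comp,
        ← hlift nZ (n ≫ P₁) (Over.OverMorphism.ext (by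
          show pullback.snd c i.left ≫ i.left = (pullback.fst c i.left ≫ pullback.fst b.left b.left) ≫ b.left
          rw [← pullback.condition, Category.assoc])),
        ← hlift nZ (n ≫ P₂) (Over.OverMorphism.ext (by
          show pullback.snd c i.left ≫ i.left = (pullback.fst c i.left ≫ pullback.snd b.left b.left) ≫ b.left
          rw [← pullback.condition, Category.assoc, ← pullback.condition]))]
  have hsh := (Presieve.isSheafFor_iff_generate _).mpr
    (isSheafFor_pair K Q F hF hK i b (inferInstance : IsProper i.left) ‹IsProper b.left› hQi hQb hcov)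
  classical
  obtain ⟨s, hs, hsu⟩ : ∃! s : F.obj (op X), F.map i.op s = t ∧ F.map b.op s = s' := by
    let Tb : Bool → Over S := fun k => Bool.casesOn k Z X'
    let fb : ∀ k, Tb k ⟶ X := fun k => match k with | false => i | true => b
    let xb : ∀ k, F.obj (op (Tb k)) := fun k => match k with | false => t | true => s'
    have hR : Presieve.ofArrows Tb fb = Presieve.singleton i ⊔ Presieve.singleton b := by
      funext W
      ext g
      constructor
      · rintro ⟨(_ | _)⟩
        · exact Or.inl ⟨⟩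
        · exact Or.inr ⟨⟩
      · rintro (⟨⟨⟩⟩ | ⟨⟨⟩⟩)
        · exact .mk (ι := Bool) false
        · exact .mk (ι := Bool) true
    rw [← hR, Presieve.isSheafFor_arrows_iff] at hsh
    have hx : Presieve.Arrows.Compatible F fb xb := by
      rintro (_ | _) (_ | _) W g₁ g₂ hg
      · exact congrArg (fun m : W ⟶ Z => F.map m.op t) (Over.OverMorphism.ext
          ((cancel_mono i.left).1 (congrArg (fun m => m.left) hg)))
      · exact hlift g₁ g₂ hg
      · exact (hlift g₂ g₁ hg.symm).symm
      · exact hself g₁ g₂ hg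
    obtain ⟨s, hs, hu⟩ := hsh xb hx
    refine ⟨s, ⟨hs false, hs true⟩, fun s₂ h₂ => hu s₂ fun k => ?_⟩
    cases k
    · exact h₂.1
    · exact h₂.2
  exact ⟨s, hs, hsu⟩

end Sheaf

/-- An almost blow up square is an isomorphism off its centre. -/
theorem isIso_restrict_of_isBlowUp_supportedOn {X' : Scheme.{u}} (b : X' ⟶ X) (I : X.IdealSheafData)
    (h : BlowUp.IsBlowUp ((HTop.supportedOn (I.comap b)).subschemeι ≫ b) I) (U : X.Opens)
    (hU : (U : Set X) = (I.support : Set X)ᶜ) : IsIso (b ∣_ U) := by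
  let σ := (HTop.supportedOn (I.comap b)).subschemeι
  have hb := BlowUp.Basic.isIso_restrict h U (by rw [hU]; exact disjoint_compl_left)
  have hUb : b ⁻¹ᵁ U = HTop.awayFrom (I.comap b) := by
    apply TopologicalSpace.Opens.ext
    rw [HTop.awayFrom, Scheme.IdealSheafData.support_comap]
    show b ⁻¹' (U : Set X) = _
    rw [hU]
    rfl
  haveI : IsIso (σ ∣_ (b ⁻¹ᵁ U)) := by
    let l := IsClosedImmersion.lift σ (b ⁻¹ᵁ U).ι (by
      rw [Scheme.IdealSheafData.ker_subschemeι, hUb]; exact le_rfl)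
    have hl : l ≫ σ = (b ⁻¹ᵁ U).ι := IsClosedImmersion.lift_fac _ _ _
    let s := (isPullback_morphismRestrict σ (b ⁻¹ᵁ U)).lift (𝟙 _) l (by rw [hl, Category.id_comp])
    have hs : s ≫ σ ∣_ (b ⁻¹ᵁ U) = 𝟙 _ := IsPullback.lift_fst _ _ _ _
    exact ⟨s, by rw [← cancel_mono (σ ∣_ (b ⁻¹ᵁ U)), Category.assoc, hs, Category.id_comp,
      Category.comp_id], hs⟩
  rw [morphismRestrict_comp] at hb
  haveI := hb
  exact @IsIso.of_isIso_comp_left _ _ _ _ _ (σ ∣_ (b ⁻¹ᵁ U)) (b ∣_ U) ‹_› hb

theorem support_ker_eq_range {Z : Scheme.{u}} (i : Z ⟶ X) [IsClosedImmersion i] :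
    (i.ker.support : Set X) = Set.range i := by
  rw [Scheme.Hom.support_ker]
  exact i.isClosedEmbedding.isClosed_range.closure_eq

end Groth.Agent.HTopLib
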