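import Groth.Agent.SubtrLib.Val
import Groth.Prelude.Def_HTop

/-!
# Standard V coverings: flat, proper, base change, composition
-/

set_option autoImplicit false
set_option linter.style.haveILetI false

universe w w' u

open CategoryTheory CategoryTheory.Limits AlgebraicGeometry Topology IsLocalRing

namespace Groth.Agent.HTopLib

theorem isExtVal_of_closedPoint_gen {V W : CommRingCat.{u}} [IsDomain V] [ValuationRing V] [IsDomain W]
    [ValuationRing W] (φ : V ⟶ W) (h : Surjective (Spec.map φ)) : HTop.IsExtVal V W φ := by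
  obtain ⟨h₁, h₂⟩ := SubtrLib.closedPoint_and_gen (V := V) (W := W) (Spec.map φ) h.surj
  have h₁' : PrimeSpectrum.comap φ.hom (closedPoint W) = closedPoint V := h₁
  have h₂' : Ideal.comap φ.hom (⊥ : Ideal W) = ⊥ := congrArg PrimeSpectrum.asIdeal h₂
  refine ⟨(injective_iff_map_eq_zero _).2 fun a ha => ?_, ⟨fun a ha => ?_⟩⟩
  · have : a ∈ (⊥ : Ideal V) := by rw [← h₂']; exact ha
    exact this
  · by_contra h
    have ha' : a ∈ (closedPoint V).asIdeal := (mem_maximalIdeal _).2 h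
    rw [← h₁'] at ha'
    exact (mem_maximalIdeal _).1 ha' ha

variable {T : Scheme.{u}}

theorem hasValLift_of_pairs (E : PreZeroHypercover.{w} T)
    (h : ∀ (V : CommRingCat.{u}) [IsDomain V] [ValuationRing V] (g : Spec V ⟶ T),
      ∃ (j : E.I₀) (z z' : ↥(pullback (E.f j) g)), z' ⤳ z ∧
        pullback.snd (E.f j) g z = closedPoint V ∧ pullback.snd (E.f j) g z' = SubtrLib.gen V) :
    HTop.HasValLift E := by
  intro V _ _ g
  obtain ⟨j, z, z', hzz, hz, hz'⟩ := h V g
  obtain ⟨W, _, _, _, l, hl⟩ :=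
    ((SubtrLib.tfae V (pullback.snd (E.f j) g)).out 3 4 rfl rfl).1 ⟨z, z', hzz, hz, hz'⟩
  obtain ⟨φ, hφ⟩ := Spec.map_surjective (R := V) (S := CommRingCat.of W) (l ≫ pullback.snd (E.f j) g)
  refine ⟨CommRingCat.of W, ‹_›, ‹_›, φ, isExtVal_of_closedPoint_gen φ ?_, j,
    l ≫ pullback.fst (E.f j) g, ?_⟩
  · rw [hφ]; exact hl
  · rw [hφ, Category.assoc, Category.assoc, pullback.condition]

theorem hasValLift_of_flat (E : PreZeroHypercover.{w} T) (hflat : ∀ j, Flat (E.f j))
    (hsurj : ∀ t : T, ∃ (j : E.I₀) (x : E.X j), E.f j x = t) : HTop.HasValLift E := by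
  refine hasValLift_of_pairs E fun V _ _ g => ?_
  obtain ⟨j, x, hx⟩ := hsurj (g (closedPoint V))
  obtain ⟨z, -, hz⟩ := Scheme.Pullback.exists_preimage_pullback (f := E.f j) (g := g) x (closedPoint V) hx
  haveI := hflat j
  haveI : Flat (pullback.snd (E.f j) g) := MorphismProperty.pullback_snd _ _ (hflat j)
  obtain ⟨z', hzz, hz'⟩ := Flat.generalizingMap (pullback.snd (E.f j) g)
    (show SubtrLib.gen V ⤳ pullback.snd (E.f j) g z by rw [hz]; exact SubtrLib.gen_specializes _)
  exact ⟨j, z, z', hzz, hz, hz'⟩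

theorem univSSubtrusive_of_proper {X Y : Scheme.{u}} (f : X ⟶ Y) [UniversallyClosed f]
    [Surjective f] : Subtr.UnivSSubtrusive f := by
  intro X' Y' i₁ i₂ f' sq y y' hy
  haveI : UniversallyClosed f' := MorphismProperty.of_isPullback sq.flip inferInstance
  haveI : Surjective f' := MorphismProperty.of_isPullback sq.flip inferInstance
  obtain ⟨x', rfl⟩ := f'.surjective y'
  obtain ⟨x, hx, rfl⟩ := f'.isClosedMap.specializingMap hy
  exact ⟨x, x', hx, rfl, rfl⟩

theorem hasValLift_of_univSSubtrusive (E : PreZeroHypercover.{w} T) {U : Scheme.{u}} (f : U ⟶ T)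
    (hf : Subtr.UnivSSubtrusive f) (ι : ∀ j, E.X j ⟶ U) (hι : ∀ j, IsOpenImmersion (ι j))
    (hfac : ∀ j, ι j ≫ f = E.f j) (hcov : ∀ x : U, ∃ j, x ∈ Set.range (ι j).base) :
    HTop.HasValLift E := by
  intro V _ _ g
  obtain ⟨W, _, _, _, a, b, hb, hab⟩ := (SubtrLib.univSSubtrusive_iff_exists_lift f).1 hf V g
  obtain ⟨j, hj⟩ := hcov (a (closedPoint W))
  haveI := hι j
  have hr : Set.range a ⊆ Set.range (ι j) := by
    rintro _ ⟨w, rfl⟩
    exact ((specializes_closedPoint (w : Spec (CommRingCat.of W))).map a.continuous).mem_open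
      (ι j).isOpenEmbedding.isOpen_range hj
  obtain ⟨φ, hφ⟩ := Spec.map_surjective (R := V) (S := CommRingCat.of W) b
  refine ⟨CommRingCat.of W, ‹_›, ‹_›, φ, isExtVal_of_closedPoint_gen φ (hφ.symm ▸ hb), j,
    IsOpenImmersion.lift (ι j) a hr, ?_⟩
  rw [hφ, ← hab, ← hfac, IsOpenImmersion.lift_fac_assoc]

theorem isStandardV_of_isStandardPh {E : PreZeroHypercover.{w} T} (hE : HTop.IsStandardPh E) :
    HTop.IsStandardV E := by
  obtain ⟨U, f, ι, hf, hs, hι, hfac, hcov⟩ := hE.exists_proper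
  refine ⟨hE.isAffine, hE.finite_index, hE.isAffine_obj, ?_⟩
  haveI := hf
  haveI := hs
  exact hasValLift_of_univSSubtrusive E f (univSSubtrusive_of_proper f) ι hι hfac hcov

theorem isStandardV_pullback {T' : Scheme.{u}} [IsAffine T'] (g : T' ⟶ T)
    {E : PreZeroHypercover.{w} T} (hE : HTop.IsStandardV E) : HTop.IsStandardV (E.pullback₁ g) := by
  haveI := hE.isAffine
  refine ⟨‹_›, hE.finite_index, fun j => ?_, fun V _ _ h => ?_⟩
  · haveI := hE.isAffine_obj j
    show IsAffine (pullback g (E.f j))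
    infer_instance
  · obtain ⟨W, i₁, i₂, φ, hφ, j, g', hg'⟩ := hE.lift V (h ≫ g)
    refine ⟨W, i₁, i₂, φ, hφ, j, pullback.lift (Spec.map φ ≫ h) g' ?_, pullback.lift_fst _ _ _⟩
    rw [Category.assoc, hg']

theorem isStandardV_bind {E : PreZeroHypercover.{w} T} (hE : HTop.IsStandardV E)
    {F : ∀ j, PreZeroHypercover.{w'} (E.X j)} (hF : ∀ j, HTop.IsStandardV (F j)) :
    HTop.IsStandardV (E.bind F) := by
  haveI := hE.finite_index
  haveI : ∀ j, Finite (F j).I₀ := fun j => (hF j).finite_index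
  refine ⟨hE.isAffine, show Finite (Σ i, (F i).I₀) from inferInstance,
    fun ij => (hF ij.1).isAffine_obj ij.2, fun V _ _ g => ?_⟩
  obtain ⟨W, _, _, φ, hφ, j, g', hg'⟩ := hE.lift V g
  obtain ⟨W', _, _, ψ, hψ, k, g'', hg''⟩ := (hF j).lift W g'
  refine ⟨W', ‹_›, ‹_›, φ ≫ ψ, ⟨hψ.1.comp hφ.1, ?_⟩, ⟨j, k⟩, g'', ?_⟩
  · haveI := hφ.2
    haveI := hψ.2
    exact inferInstanceAs (IsLocalHom (ψ.hom.comp φ.hom))
  · show g'' ≫ (F j).f k ≫ E.f j = _
    rw [reassoc_of% hg'', hg', Spec.map_comp, Category.assoc]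

theorem isStandardPh_pullback {T' : Scheme.{u}} [IsAffine T'] (g : T' ⟶ T)
    {E : PreZeroHypercover.{w} T} (hE : HTop.IsStandardPh E) :
    HTop.IsStandardPh (E.pullback₁ g) := by
  obtain ⟨U, f, ι, hf, hs, hι, hfac, hcov⟩ := hE.exists_proper
  haveI := hE.isAffine
  refine ⟨‹_›, hE.finite_index, fun j => ?_, pullback g f, pullback.fst g f,
    fun j => pullback.map g (E.f j) g f (𝟙 T') (ι j) (𝟙 T) ((Category.comp_id g).trans (Category.id_comp g).symm)
      ((Category.comp_id _).trans (hfac j).symm), ?_, ?_, fun j => ?_, fun j => ?_, fun z => ?_⟩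
  · haveI := hE.isAffine_obj j
    show IsAffine (pullback g (E.f j))
    infer_instance
  · haveI := hf
    exact MorphismProperty.pullback_fst _ _ hf
  · exact MorphismProperty.pullback_fst _ _ hs
  · haveI := hι j
    exact inferInstanceAs (IsOpenImmersion (pullback.map g (E.f j) g f (𝟙 T') (ι j) (𝟙 T)
      ((Category.comp_id g).trans (Category.id_comp g).symm)
      ((Category.comp_id _).trans (hfac j).symm)))
  · exact (pullback.lift_fst _ _ _).trans (Category.comp_id _)
  · obtain ⟨j, hj⟩ := hcov (pullback.snd g f z)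
    refine ⟨j, ?_⟩
    show z ∈ Set.range (pullback.map g (E.f j) g f (𝟙 T') (ι j) (𝟙 T)
      ((Category.comp_id g).trans (Category.id_comp g).symm)
      ((Category.comp_id _).trans (hfac j).symm))
    rw [Scheme.Pullback.range_map]
    exact ⟨⟨_, rfl⟩, hj⟩

end Groth.Agent.HTopLib
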