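import Groth.Agent.HTopLib.Val
import Groth.Agent.SubtrLib.Submersive

/-!
# V coverings: refinement over affines, base change, composition, fpqc and proper covers
-/

set_option autoImplicit false
set_option linter.style.haveILetI false

universe w w' u

open CategoryTheory CategoryTheory.Limits AlgebraicGeometry Topology IsLocalRing TopologicalSpace

namespace Groth.Agent.HTopLib

variable {T : Scheme.{u}}

theorem exists_affine_cover (X : Scheme.{u}) [CompactSpace X] :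
    ∃ (n : ℕ) (W : Fin n → X.Opens), (∀ k, IsAffineOpen (W k)) ∧ ∀ x : X, ∃ k, x ∈ W k := by
  obtain ⟨s, hs, hcov⟩ := isCompact_iff_finite_and_eq_biUnion_affineOpens.1
    (show IsCompact ((⊤ : X.Opens) : Set X) from isCompact_univ)
  haveI := hs.to_subtype
  obtain ⟨n, ⟨e⟩⟩ := Finite.exists_equiv_fin s
  refine ⟨n, fun k => (e.symm k).1.1, fun k => (e.symm k).1.2, fun x => ?_⟩
  have hx : x ∈ (⨆ i ∈ s, (i : X.Opens)) := by rw [← hcov]; trivial
  obtain ⟨i, hi, hxi⟩ : ∃ i ∈ s, x ∈ i.1 := by simpa [Opens.mem_iSup] using hx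
  exact ⟨e ⟨i, hi⟩, by simpa using hxi⟩

/-- A valuation ring lift lands in any open containing the image of the closed point. -/
theorem range_subset_of_closedPoint {V : CommRingCat.{u}} [IsLocalRing V] {X : Scheme.{u}}
    (g : Spec V ⟶ X) (U : X.Opens) (h : g (closedPoint V) ∈ U) : Set.range g ⊆ (U : Set X) := by
  rintro _ ⟨w, rfl⟩
  exact ((specializes_closedPoint (w : PrimeSpectrum V)).map g.continuous).mem_open U.2 h

theorem hasValLift_singleton_iff {X Y : Scheme.{u}} (f : X ⟶ Y) :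
    HTop.HasValLift (PreZeroHypercover.singleton.{w} f) ↔ Subtr.UnivSSubtrusive f := by
  refine ⟨fun h => (SubtrLib.univSSubtrusive_iff_exists_lift f).2 fun V _ _ _ g => ?_, fun h => ?_⟩
  · obtain ⟨W, _, _, φ, hφ, j, g', hg'⟩ := h (CommRingCat.of V) g
    haveI := hφ.2
    exact ⟨W, inferInstance, inferInstance, inferInstance, g', Spec.map φ,
      ⟨SubtrLib.comap_surjective φ.hom hφ.1⟩, hg'⟩
  · refine hasValLift_of_univSSubtrusive (PreZeroHypercover.singleton.{w} f) f h (fun _ => 𝟙 X)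
      (fun _ => inferInstanceAs (IsOpenImmersion (𝟙 X))) (fun _ => Category.id_comp f) (fun x => ⟨PUnit.unit, x, rfl⟩)

theorem exists_isStandardPh_of_proper {X : Scheme.{u}} [IsAffine T] (g : X ⟶ T) [IsProper g]
    [Surjective g] :
    ∃ F : PreZeroHypercover.{0} T, HTop.IsStandardPh F ∧ ∀ j, ∃ h : F.X j ⟶ X, h ≫ g = F.f j := by
  haveI : CompactSpace X := QuasiCompact.compactSpace_of_compactSpace g
  obtain ⟨n, W, hW, hcov⟩ := exists_affine_cover X
  exact ⟨⟨Fin n, fun k => W k, fun k => (W k).ι ≫ g⟩,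
    ⟨inferInstance, inferInstanceAs (Finite (Fin n)), hW, X, g, fun k => (W k).ι, ‹_›, ‹_›,
      fun k => inferInstanceAs (IsOpenImmersion (W k).ι), fun k => rfl,
      fun x => ⟨(hcov x).choose, by rw [Scheme.Opens.range_ι]; exact (hcov x).choose_spec⟩⟩,
    fun k => ⟨(W k).ι, rfl⟩⟩

/-- A V covering can be refined over every affine scheme mapping to the target. -/
theorem exists_standard_refining {E : PreZeroHypercover.{w} T} (hE : HTop.IsVCover E)
    {Z : Scheme.{u}} [IsAffine Z] (h : Z ⟶ T) :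
    ∃ F : PreZeroHypercover.{0} Z, HTop.IsStandardV F ∧ HTop.RefinesOver h F E := by
  classical
  -- cover `Z` by finitely many affine opens mapping into affine opens
  have key : ∀ z : Z, ∃ (U : T.affineOpens) (W : Z.affineOpens), z ∈ W.1 ∧ W.1 ≤ h ⁻¹ᵁ U.1 := fun z => by
    obtain ⟨U, hU, hzU, -⟩ := exists_isAffineOpen_mem_and_subset (Opens.mem_top (h z))
    obtain ⟨W, hW, hzW, hle⟩ := exists_isAffineOpen_mem_and_subset (U := h ⁻¹ᵁ U) hzU
    exact ⟨⟨U, hU⟩, ⟨W, hW⟩, hzW, hle⟩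
  choose U W hzW hle using key
  obtain ⟨t, ht⟩ := (isCompact_univ (X := Z)).elim_finite_subcover (fun z => ((W z).1 : Set Z))
    (fun z => (W z).1.2) (fun z _ => Set.mem_iUnion.2 ⟨z, hzW z⟩)
  obtain ⟨n, ⟨e⟩⟩ := Finite.exists_equiv_fin ↥t
  let z : Fin n → Z := fun k => (e.symm k).1
  let C : PreZeroHypercover.{0} Z := ⟨Fin n, fun k => (W (z k)).1, fun k => (W (z k)).1.ι⟩
  have hC : HTop.IsStandardV C :=
    ⟨inferInstance, inferInstanceAs (Finite (Fin n)), fun k => (W (z k)).2,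
      hasValLift_of_flat C (fun k => inferInstanceAs (Flat (W (z k)).1.ι)) fun x => by
        obtain ⟨z₀, hz₀, hx⟩ : ∃ z₀ ∈ t, x ∈ (W z₀).1 := by simpa using ht (Set.mem_univ x)
        exact ⟨e ⟨z₀, hz₀⟩, ⟨x, by simpa [z] using hx⟩, rfl⟩⟩
  choose F hF hFE using fun k : Fin n => hE (U (z k))
  let g : ∀ k : Fin n, ((W (z k)).1 : Scheme.{u}) ⟶ ((U (z k)).1 : Scheme.{u}) := fun k =>
    h.resLE (U (z k)).1 (W (z k)).1 (hle _)
  haveI : ∀ k, IsAffine ((W (z k)).1 : Scheme.{u}) := fun k => (W (z k)).2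
  refine ⟨C.bind fun k => (F k).pullback₁ (g k), isStandardV_bind hC fun k => isStandardV_pullback (g k) (hF k), ?_⟩
  rintro ⟨k, j⟩
  obtain ⟨i, l, hl⟩ := hFE k j
  refine ⟨i, pullback.snd (g k) ((F k).f j) ≫ l, ?_⟩
  show (pullback.snd (g k) ((F k).f j) ≫ l) ≫ E.f i = (pullback.fst (g k) ((F k).f j) ≫ C.f k) ≫ h
  rw [Category.assoc, hl, ← pullback.condition_assoc, Category.assoc]
  exact congrArg (pullback.fst (g k) ((F k).f j) ≫ ·) (Scheme.Hom.resLE_comp_ι _ _)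

theorem isVCover_pullback {T' : Scheme.{u}} (g : T' ⟶ T) {E : PreZeroHypercover.{w} T}
    (hE : HTop.IsVCover E) : HTop.IsVCover (E.pullback₁ g) := by
  intro U
  haveI : IsAffine (U.1 : Scheme.{u}) := U.2
  obtain ⟨F, hF, hFE⟩ := exists_standard_refining hE (U.1.ι ≫ g)
  refine ⟨F, hF, fun j => ?_⟩
  obtain ⟨i, l, hl⟩ := hFE j
  exact ⟨i, pullback.lift (F.f j ≫ U.1.ι) l (by rw [Category.assoc, hl]), pullback.lift_fst _ _ _⟩

theorem isVCover_bind {E : PreZeroHypercover.{w} T} (hE : HTop.IsVCover E)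
    {F : ∀ i, PreZeroHypercover.{w'} (E.X i)} (hF : ∀ i, HTop.IsVCover (F i)) :
    HTop.IsVCover (E.bind F) := by
  intro U
  obtain ⟨G, hG, hGE⟩ := hE U
  choose i l hl using hGE
  have : ∀ j, ∃ H : PreZeroHypercover.{0} (G.X j), HTop.IsStandardV H ∧ HTop.RefinesOver (l j) H (F (i j)) :=
    fun j => by
      haveI := hG.isAffine_obj j
      exact exists_standard_refining (hF (i j)) (l j)
  choose H hH hHF using this
  refine ⟨G.bind H, isStandardV_bind hG hH, ?_⟩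
  rintro ⟨j, k⟩
  obtain ⟨m, p, hp⟩ := hHF j k
  refine ⟨⟨i j, m⟩, p, ?_⟩
  show p ≫ (F (i j)).f m ≫ E.f (i j) = ((H j).f k ≫ G.f j) ≫ U.1.ι
  rw [reassoc_of% hp, hl, Category.assoc]

theorem isVCover_of_fpqc (E : PreZeroHypercover.{w} T) [QuasiCompactCover E]
    (hflat : ∀ i, Flat (E.f i)) : HTop.IsVCover E := by
  intro U
  haveI : IsAffine (U.1 : Scheme.{u}) := U.2
  obtain ⟨n, a, V, hV, hcov⟩ := QuasiCompactCover.exists_isAffineOpen_of_isCompact E U.2.isCompact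
  have hle : ∀ k, V k ≤ E.f (a k) ⁻¹ᵁ U.1 := fun k x hx =>
    hcov.le (Set.mem_iUnion.2 ⟨k, x, hx, rfl⟩)
  let G : PreZeroHypercover.{0} (U.1 : Scheme.{u}) :=
    ⟨Fin n, fun k => V k, fun k => (E.f (a k)).resLE U.1 (V k) (hle k)⟩
  have hflatG : ∀ k, Flat (G.f k) := fun k => by
    haveI := hflat (a k)
    exact inferInstanceAs (Flat ((E.f (a k)).resLE U.1 (V k) (hle k)))
  refine ⟨G, ⟨inferInstance, inferInstanceAs (Finite (Fin n)), hV,
    hasValLift_of_flat G hflatG fun t => ?_⟩, fun k => ⟨a k, (V k).ι, ?_⟩⟩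
  · obtain ⟨k, x, hx, hxt⟩ := Set.mem_iUnion.1 (hcov.ge t.2)
    refine ⟨k, ⟨x, hx⟩, U.1.ι.isOpenEmbedding.injective ?_⟩
    show U.1.ι ((E.f (a k)).resLE U.1 (V k) (hle k) ⟨x, hx⟩) = U.1.ι t
    rw [← Scheme.Hom.comp_apply, Scheme.Hom.resLE_comp_ι, Scheme.Hom.comp_apply]
    exact hxt
  · exact (Scheme.Hom.resLE_comp_ι _ _).symm

theorem isHCover_of_proper {X Y : Scheme.{u}} (f : Y ⟶ X) [IsProper f] [Surjective f]
    [LocallyOfFinitePresentation f] : HTop.IsHCover (PreZeroHypercover.singleton.{w} f) := by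
  refine ⟨fun _ => inferInstanceAs (LocallyOfFinitePresentation f), fun U => ?_⟩
  haveI : IsAffine (U.1 : Scheme.{u}) := U.2
  haveI : Surjective (f ∣_ U.1) := IsZariskiLocalAtTarget.restrict (P := @Surjective) ‹_› _
  haveI : IsProper (f ∣_ U.1) := IsZariskiLocalAtTarget.restrict (P := @IsProper) ‹_› _
  obtain ⟨F, hF, hfac⟩ := exists_isStandardPh_of_proper (f ∣_ U.1)
  refine ⟨F, isStandardV_of_isStandardPh hF, fun j => ?_⟩
  obtain ⟨l, hl⟩ := hfac j
  refine ⟨PUnit.unit, l ≫ (f ⁻¹ᵁ U.1).ι, ?_⟩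
  show (l ≫ (f ⁻¹ᵁ U.1).ι) ≫ f = F.f j ≫ U.1.ι
  rw [Category.assoc, ← morphismRestrict_ι, reassoc_of% hl]

theorem hasValLift_of_isVCover {E : PreZeroHypercover.{w} T} (hE : HTop.IsVCover E) :
    HTop.HasValLift E := by
  intro V _ _ g
  obtain ⟨U, hU, hgU, -⟩ := exists_isAffineOpen_mem_and_subset (Opens.mem_top (g (closedPoint V)))
  obtain ⟨F, hF, hFE⟩ := hE ⟨U, hU⟩
  obtain ⟨g₀, hg₀⟩ : ∃ g₀ : Spec V ⟶ U, g₀ ≫ U.ι = g :=
    ⟨IsOpenImmersion.lift U.ι g (by
      rw [Scheme.Opens.range_ι]; exact range_subset_of_closedPoint g U hgU),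
      IsOpenImmersion.lift_fac _ _ _⟩
  obtain ⟨W, _, _, φ, hφ, j, g', hg'⟩ := hF.lift V g₀
  obtain ⟨i, l, hl⟩ := hFE j
  refine ⟨W, ‹_›, ‹_›, φ, hφ, i, g' ≫ l, ?_⟩
  rw [Category.assoc, hl, reassoc_of% hg', hg₀]

theorem isVCover_singleton_of_univSSubtrusive {X Y : Scheme.{u}} (f : X ⟶ Y) [QuasiCompact f]
    (hf : Subtr.UnivSSubtrusive f) : HTop.IsVCover (PreZeroHypercover.singleton.{w} f) := by
  intro U
  haveI : IsAffine (U.1 : Scheme.{u}) := U.2
  haveI : CompactSpace (f ⁻¹ᵁ U.1).toScheme :=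
    isCompact_iff_compactSpace.1 (f.isCompact_preimage U.2.isCompact)
  obtain ⟨n, W, hW, hcov⟩ := exists_affine_cover (f ⁻¹ᵁ U.1).toScheme
  refine ⟨⟨Fin n, fun k => W k, fun k => (W k).ι ≫ f ∣_ U.1⟩,
    ⟨inferInstance, inferInstanceAs (Finite (Fin n)), hW, ?_⟩,
    fun k => ⟨PUnit.unit, (W k).ι ≫ (f ⁻¹ᵁ U.1).ι, ?_⟩⟩
  · have hf' : Subtr.UnivSSubtrusive (f ∣_ U.1) :=
      (MorphismProperty.universally_isStableUnderBaseChange _).of_isPullback
        (isPullback_morphismRestrict f U.1).flip hf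
    refine hasValLift_of_univSSubtrusive _ (f ∣_ U.1) hf' (fun k => (W k).ι)
      (fun k => inferInstanceAs (IsOpenImmersion (W k).ι)) (fun k => rfl) fun x => ?_
    obtain ⟨k, hk⟩ := hcov x
    exact ⟨k, by rw [Scheme.Opens.range_ι]; exact hk⟩
  · show ((W k).ι ≫ (f ⁻¹ᵁ U.1).ι) ≫ f = ((W k).ι ≫ f ∣_ U.1) ≫ U.1.ι
    rw [Category.assoc, Category.assoc, morphismRestrict_ι]

/-- The map from the coproduct of a V covering is universally submersive. -/
theorem univSubmersive_sigmaDesc {X : Scheme.{u}} (E : PreZeroHypercover.{u} X)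
    (hE : HTop.IsVCover E) : SGA1.UnivSubmersive (Sigma.desc E.f) := by
  intro X' Y' i₁ i₂ f' sq
  let m : ∀ i, pullback i₂ (E.f i) ⟶ X' := fun i => sq.lift (pullback.fst i₂ (E.f i))
    (pullback.snd i₂ (E.f i) ≫ Sigma.ι E.X i) (by rw [Category.assoc, Sigma.ι_desc]; exact pullback.condition)
  have hm : ∀ i, m i ≫ f' = pullback.fst i₂ (E.f i) := fun i => sq.lift_fst _ _ _
  have hV := isVCover_pullback i₂ hE
  refine ⟨isCoinducing_iff_isClosed.2 fun C => ⟨fun hC => ?_, fun hC => hC.preimage f'.continuous⟩,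
    fun y => ?_⟩
  · have hC' : ∀ i, IsClosed (pullback.fst i₂ (E.f i) ⁻¹' C) := fun i => by
      rw [← hm, Scheme.Hom.comp_base, TopCat.coe_comp, Set.preimage_comp]
      exact hC.preimage (m i).continuous
    refine closure_subset_iff_isClosed.1 fun y hy => ?_
    obtain ⟨U, hU, hyU, -⟩ := exists_isAffineOpen_mem_and_subset (Opens.mem_top y)
    obtain ⟨F, hF, hFE⟩ := hV ⟨U, hU⟩
    haveI : IsAffine (U : Scheme.{u}) := hU
    haveI := hF.finite_index
    choose i l hl using hFE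
    have hl' : ∀ j x, pullback.fst i₂ (E.f (i j)) (l j x) = U.ι (F.f j x) := fun j x =>
      congrArg (fun k : F.X j ⟶ Y' => k.base x) (hl j)
    have hcl : ∀ j, IsClosed (F.f j ⁻¹' (U.ι ⁻¹' C)) := fun j => by
      have : F.f j ⁻¹' (U.ι ⁻¹' C) = l j ⁻¹' (pullback.fst i₂ (E.f (i j)) ⁻¹' C) :=
        Set.ext fun x => show U.ι (F.f j x) ∈ C ↔ pullback.fst i₂ (E.f (i j)) (l j x) ∈ C by rw [hl']
      rw [this]
      exact (hC' (i j)).preimage (l j).continuous
    have hcover : U.ι ⁻¹' C ⊆ ⋃ j, F.f j '' (F.f j ⁻¹' (U.ι ⁻¹' C)) := fun u hu => by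
      obtain ⟨V, _, _, _, g, hg, -⟩ := SubtrLib.exists_valuationRing_of_specializes (specializes_refl u)
      obtain ⟨W, _, _, φ, hφ, j, g', hg'⟩ := hF.lift (CommRingCat.of V) g
      haveI := hφ.2
      obtain ⟨w, hw⟩ := SubtrLib.comap_surjective φ.hom hφ.1 (closedPoint V)
      have : F.f j (g' w) = u := by
        rw [← Scheme.Hom.comp_apply, hg', Scheme.Hom.comp_apply]
        rw [← hg]; exact congrArg g hw
      exact Set.mem_iUnion.2 ⟨j, g' w, show F.f j (g' w) ∈ U.ι ⁻¹' C by rw [this]; exact hu, this⟩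
    have hyc : (⟨y, hyU⟩ : U.toScheme) ∈ closure (U.ι ⁻¹' C) := by
      rw [U.ι.isOpenEmbedding.isInducing.closure_eq_preimage_closure_image,
        Set.image_preimage_eq_inter_range, Scheme.Opens.range_ι]
      show y ∈ closure (C ∩ (U : Set Y'))
      exact closure_mono (Set.inter_comm _ _).le (U.2.inter_closure ⟨hyU, hy⟩)
    obtain ⟨j, hj⟩ := Set.mem_iUnion.1
      ((closure_iUnion_of_finite (f := fun j => F.f j '' (F.f j ⁻¹' (U.ι ⁻¹' C)))).le
        (closure_mono hcover hyc))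
    haveI : IsAffine (F.X j) := hF.isAffine_obj j
    obtain ⟨e, he, hey⟩ := LimTop.exists_specializes_of_mem_closure
      (FDesc.ProConsImage.isProConstructible_image (F.f j) (LimTop.isProConstructible_of_isClosed (hcl j))) hj
    obtain ⟨V, _, _, _, g, hg, hg'⟩ := SubtrLib.exists_valuationRing_of_specializes hey
    obtain ⟨W, _, _, φ, hφ, j', g'', hg''⟩ := hF.lift (CommRingCat.of V) g
    haveI := hφ.2
    have hs := SubtrLib.comap_surjective φ.hom hφ.1
    obtain ⟨wc, hwc⟩ := hs (closedPoint V)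
    obtain ⟨h₁, h₂⟩ := SubtrLib.closedPoint_and_gen (V := V) (W := W) (Spec.map φ) hs
    have e₁ : F.f j' (g'' (SubtrLib.gen W)) = e := by
      rw [← Scheme.Hom.comp_apply, hg'', Scheme.Hom.comp_apply]
      exact (congrArg g h₂).trans hg'
    have e₂ : F.f j' (g'' (closedPoint W)) = ⟨y, hyU⟩ := by
      rw [← Scheme.Hom.comp_apply, hg'', Scheme.Hom.comp_apply]
      exact (congrArg g h₁).trans hg
    have heC : g'' (SubtrLib.gen W) ∈ F.f j' ⁻¹' (U.ι ⁻¹' C) := by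
      show F.f j' (g'' (SubtrLib.gen W)) ∈ U.ι ⁻¹' C
      rw [e₁]
      obtain ⟨a, ha, rfl⟩ := he
      exact ha
    have : F.f j' (g'' (closedPoint W)) ∈ U.ι ⁻¹' C :=
      (((SubtrLib.gen_specializes (closedPoint W : Spec (CommRingCat.of W))).map
        g''.continuous).mem_closed (hcl j') heC)
    rw [e₂] at this
    exact this
  · obtain ⟨V, _, _, _, g, hg, -⟩ := SubtrLib.exists_valuationRing_of_specializes (specializes_refl y)
    obtain ⟨W, _, _, φ, hφ, i, g', hg'⟩ := hasValLift_of_isVCover hV (CommRingCat.of V) g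
    haveI := hφ.2
    obtain ⟨w, hw⟩ := SubtrLib.comap_surjective φ.hom hφ.1 (closedPoint V)
    refine ⟨m i (g' w), ?_⟩
    rw [← Scheme.Hom.comp_apply, hm]
    change (g' ≫ (E.pullback₁ i₂).f i) w = y
    rw [hg', Scheme.Hom.comp_apply]
    exact (congrArg g hw).trans hg

end Groth.Agent.HTopLib
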