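import Mathlib
import Groth.Prelude.Def_HTop

/-!
# Criteria for quasi-compact and fpqc covers
-/

set_option autoImplicit false
set_option linter.style.haveILetI false

universe w u

open CategoryTheory CategoryTheory.Limits AlgebraicGeometry Topology TopologicalSpace

namespace Groth.Agent.HTopLib

variable {T : Scheme.{u}}

theorem quasiCompactCover_of_compact_images (E : PreZeroHypercover.{w} T)
    (h : ∀ U : T.Opens, IsAffineOpen U → ∃ (κ : Type u) (_ : Finite κ) (a : κ → E.I₀)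
      (K : ∀ k, Set (E.X (a k))), (∀ k, IsCompact (K k)) ∧ ⋃ k, E.f (a k) '' K k = (U : Set T)) :
    QuasiCompactCover E := by
  refine ⟨fun {U} hU => ?_⟩
  obtain ⟨κ, _, a, K, hK, hU'⟩ := h U hU
  have : ∀ k, ∃ V : Set (E.X (a k)), IsCompact V ∧ IsOpen V ∧ K k ⊆ V ∧ V ⊆ E.f (a k) ⁻¹' U :=
    fun k => PrespectralSpace.exists_isCompact_and_isOpen_between (hK k)
      (U.2.preimage (E.f (a k)).continuous) fun x hx => hU'.le (Set.mem_iUnion.2 ⟨k, x, hx, rfl⟩)
  choose V hVc hVo hKV hVU using this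
  refine IsCompactOpenCovered.of_finite (a := a) (V := fun k => ⟨V k, hVo k⟩) hVc
    (Set.Subset.antisymm (Set.iUnion_subset fun k => Set.image_subset_iff.2 (hVU k)) ?_)
  rw [← hU']
  exact Set.iUnion_mono fun k => Set.image_mono (hKV k)

theorem mem_fpqcPrecoverage_iff (E : PreZeroHypercover.{w} T) :
    E.presieve₀ ∈ Scheme.fpqcPrecoverage T ↔ QuasiCompactCover E ∧ ∀ i, Flat (E.f i) := by
  refine ⟨fun h => ⟨Scheme.presieve₀_mem_qcPrecoverage_iff.1 h.1,
    ((Scheme.presieve₀_mem_precoverage_iff _).1 h.2).2⟩, fun ⟨hq, hf⟩ =>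
    ⟨Scheme.presieve₀_mem_qcPrecoverage_iff.2 hq,
      (Scheme.presieve₀_mem_precoverage_iff _).2 ⟨fun x => ?_, hf⟩⟩⟩
  obtain ⟨U, hU, hxU, -⟩ := exists_isAffineOpen_mem_and_subset (Opens.mem_top x)
  obtain ⟨n, a, V, -, h⟩ := QuasiCompactCover.exists_isAffineOpen_of_isCompact E hU.isCompact
  obtain ⟨k, y, -, hy⟩ := Set.mem_iUnion.1 (h.ge hxU)
  exact ⟨a k, y, hy⟩

theorem quasiCompactCover_iff_nhds [QuasiSeparatedSpace T] (E : PreZeroHypercover.{w} T) :
    QuasiCompactCover E ↔ ∀ t : T, ∃ (n : ℕ) (i : Fin n → E.I₀) (V : ∀ j, (E.X (i j)).Opens),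
      (∀ j, IsCompact (V j : Set (E.X (i j)))) ∧
        (⋃ j, ⇑(E.f (i j)) '' (V j : Set (E.X (i j)))) ∈ nhds t := by
  refine ⟨fun hE t => ?_, fun h => quasiCompactCover_of_compact_images E fun U hU => ?_⟩
  · obtain ⟨U, hU, htU, -⟩ := exists_isAffineOpen_mem_and_subset (Opens.mem_top t)
    obtain ⟨n, a, V, hV, he⟩ := QuasiCompactCover.exists_isAffineOpen_of_isCompact E hU.isCompact
    exact ⟨n, a, V, fun j => (hV j).isCompact, he ▸ U.2.mem_nhds htU⟩
  choose n i V hV hN using h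
  have hW : ∀ t : U, ∃ W : T.Opens, IsAffineOpen W ∧ t.1 ∈ W ∧
      (W : Set T) ⊆ (⋃ j, ⇑(E.f (i t.1 j)) '' (V t.1 j : Set (E.X (i t.1 j)))) ∩ U := fun t => by
    obtain ⟨O, hO, hOo, htO⟩ := mem_nhds_iff.1 (hN t.1)
    obtain ⟨W, hW, htW, hle⟩ := exists_isAffineOpen_mem_and_subset (U := (⟨O, hOo⟩ : T.Opens) ⊓ U)
      ⟨htO, t.2⟩
    exact ⟨W, hW, htW, fun z hz => ⟨hO (hle hz).1, (hle hz).2⟩⟩
  choose W hWa htW hWs using hW
  obtain ⟨s, hs⟩ := hU.isCompact.elim_finite_subcover (fun t => (W t : Set T)) (fun t => (W t).2)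
    fun z hz => Set.mem_iUnion.2 ⟨⟨z, hz⟩, htW ⟨z, hz⟩⟩
  refine ⟨Σ t : s, Fin (n t.1.1), inferInstance, fun p => i p.1.1.1 p.2,
    fun p => (V p.1.1.1 p.2 : Set _) ∩ E.f (i p.1.1.1 p.2) ⁻¹' (W p.1.1 : Set T), fun p => ?_, ?_⟩
  · haveI : CompactSpace (V p.1.1.1 p.2).toScheme := isCompact_iff_compactSpace.1 (hV _ _)
    haveI : QuasiCompact ((V p.1.1.1 p.2).ι ≫ E.f (i p.1.1.1 p.2)) := quasiCompact_of_compactSpace _
    have := (((V p.1.1.1 p.2).ι ≫ E.f (i p.1.1.1 p.2)).isCompact_preimage (hWa p.1.1).isCompact).image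
      (V p.1.1.1 p.2).ι.continuous
    convert this using 1
    ext z
    refine ⟨fun hz => ⟨⟨z, hz.1⟩, ?_, rfl⟩, ?_⟩
    · show ((V p.1.1.1 p.2).ι ≫ E.f (i p.1.1.1 p.2)) ⟨z, hz.1⟩ ∈ W p.1.1
      rw [Scheme.Hom.comp_apply]; exact hz.2
    · rintro ⟨v, hv, rfl⟩
      refine ⟨v.2, ?_⟩
      show E.f (i p.1.1.1 p.2) ((V p.1.1.1 p.2).ι v) ∈ W p.1.1
      rw [← Scheme.Hom.comp_apply]; exact hv
  · apply Set.Subset.antisymm
    · exact Set.iUnion_subset fun p => Set.image_subset_iff.2 fun x hx => (hWs p.1.1 hx.2).2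
    · intro z hz
      obtain ⟨t, ht, hzt⟩ : ∃ t ∈ s, z ∈ (W t : Set T) := by simpa using hs hz
      obtain ⟨j, x, hx, rfl⟩ := Set.mem_iUnion.1 (hWs t hzt).1
      exact Set.mem_iUnion.2 ⟨⟨⟨t, ht⟩, j⟩, x, ⟨hx, hzt⟩, rfl⟩

theorem mem_fpqc_of_fpqc_locally (E : PreZeroHypercover.{u} T) (hflat : ∀ i, Flat (E.f i))
    (𝒱 : Scheme.Cover Scheme.fpqcPrecoverage T)
    (hloc : ∀ j, (E.pullback₁ (𝒱.f j)).presieve₀ ∈ Scheme.fpqcPrecoverage (𝒱.X j)) :
    E.presieve₀ ∈ Scheme.fpqcPrecoverage T := by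
  haveI : QuasiCompactCover 𝒱.toPreZeroHypercover :=
    Scheme.presieve₀_mem_qcPrecoverage_iff.1 𝒱.mem₀.1
  refine (mem_fpqcPrecoverage_iff E).2
    ⟨quasiCompactCover_of_compact_images E fun U hU => ?_, hflat⟩
  obtain ⟨n, a, W, hW, hWU⟩ :=
    QuasiCompactCover.exists_isAffineOpen_of_isCompact 𝒱.toPreZeroHypercover hU.isCompact
  have : ∀ k, ∃ (m : ℕ) (b : Fin m → E.I₀) (V : ∀ l, (pullback (𝒱.f (a k)) (E.f (b l))).Opens),
      (∀ l, IsAffineOpen (V l)) ∧
        ⋃ l, pullback.fst (𝒱.f (a k)) (E.f (b l)) '' (V l) = (W k : Set (𝒱.X (a k))) := fun k => by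
    haveI := ((mem_fpqcPrecoverage_iff _).1 (hloc (a k))).1
    exact QuasiCompactCover.exists_isAffineOpen_of_isCompact (E.pullback₁ (𝒱.f (a k))) (hW k).isCompact
  choose m b V hV hVW using this
  refine ⟨ULift.{u} (Σ k : Fin n, Fin (m k)), inferInstance, fun p => b p.down.1 p.down.2,
    fun p => pullback.snd (𝒱.f (a p.down.1)) (E.f (b p.down.1 p.down.2)) '' (V p.down.1 p.down.2),
    fun p => (hV _ _).isCompact.image (Scheme.Hom.continuous _), ?_⟩
  rw [← hWU]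
  ext z
  simp only [Set.mem_iUnion, Set.mem_image, ULift.exists, Sigma.exists]
  constructor
  · rintro ⟨k, l, _, ⟨v, hv, rfl⟩, rfl⟩
    refine ⟨k, pullback.fst (𝒱.f (a k)) (E.f (b k l)) v, ?_, ?_⟩
    · exact (hVW k).le (Set.mem_iUnion.2 ⟨l, v, hv, rfl⟩)
    · rw [← Scheme.Hom.comp_apply, ← Scheme.Hom.comp_apply, pullback.condition]
  · rintro ⟨k, w, hw, rfl⟩
    obtain ⟨l, v, hv, rfl⟩ := Set.mem_iUnion.1 ((hVW k).ge hw)
    refine ⟨k, l, _, ⟨v, hv, rfl⟩, ?_⟩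
    rw [← Scheme.Hom.comp_apply, ← Scheme.Hom.comp_apply, pullback.condition]

theorem mem_fpqc_of_refining (E : PreZeroHypercover.{w} T) (hflat : ∀ i, Flat (E.f i))
    (href : ∀ (Z : Scheme.{u}) [IsAffine Z] (h : Z ⟶ T), ∃ F : PreZeroHypercover.{0} Z,
      Finite F.I₀ ∧ (∀ j, IsAffine (F.X j)) ∧ (∀ j, Flat (F.f j)) ∧
        (∀ z : Z, ∃ (j : F.I₀) (x : F.X j), F.f j x = z) ∧ HTop.RefinesOver h F E) :
    E.presieve₀ ∈ Scheme.fpqcPrecoverage T := by
  refine (mem_fpqcPrecoverage_iff E).2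
    ⟨quasiCompactCover_of_compact_images E fun U hU => ?_, hflat⟩
  haveI : IsAffine (U : Scheme.{u}) := hU
  obtain ⟨F, hF, hFa, -, hFs, hFE⟩ := href U U.ι
  choose i l hl using hFE
  haveI := hFa
  refine ⟨ULift.{u} F.I₀, inferInstance, fun p => i p.down, fun p => Set.range (l p.down),
    fun p => isCompact_range (Scheme.Hom.continuous _), ?_⟩
  ext z
  simp only [Set.mem_iUnion, Set.mem_image, ULift.exists, Set.mem_range, exists_exists_eq_and]
  constructor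
  · rintro ⟨j, x, rfl⟩
    rw [← Scheme.Hom.comp_apply, hl, Scheme.Hom.comp_apply]
    exact (F.f j x).2
  · intro hz
    obtain ⟨j, x, hx⟩ := hFs ⟨z, hz⟩
    refine ⟨j, x, ?_⟩
    rw [← Scheme.Hom.comp_apply, hl, Scheme.Hom.comp_apply, hx]
    rfl

theorem mem_fpqc_iff_sigmaDesc (E : PreZeroHypercover.{u} T) :
    E.presieve₀ ∈ Scheme.fpqcPrecoverage T ↔
      Presieve.singleton (Sigma.desc E.f) ∈ Scheme.fpqcPrecoverage T := by
  rw [← PreZeroHypercover.presieve₀_singleton.{u}, mem_fpqcPrecoverage_iff, mem_fpqcPrecoverage_iff]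
  constructor
  · rintro ⟨hq, hf⟩
    refine ⟨quasiCompactCover_of_compact_images _ fun U hU => ?_,
      fun _ => IsZariskiLocalAtSource.sigmaDesc hf⟩
    obtain ⟨n, a, V, hV, he⟩ := QuasiCompactCover.exists_isAffineOpen_of_isCompact E hU.isCompact
    refine ⟨ULift.{u} (Fin n), inferInstance, fun _ => PUnit.unit,
      fun p => Sigma.ι E.X (a p.down) '' (V p.down), fun p => (hV _).isCompact.image (Scheme.Hom.continuous _), ?_⟩
    rw [← he]
    ext z
    simp only [Set.mem_iUnion, ULift.exists, Set.image_image]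
    refine exists_congr fun k => ?_
    show z ∈ (fun x => Sigma.desc E.f (Sigma.ι E.X (a k) x)) '' _ ↔ _
    simp only [← Scheme.Hom.comp_apply, Sigma.ι_desc]
  · rintro ⟨hq, hf⟩
    refine ⟨quasiCompactCover_of_compact_images _ fun U hU => ?_, fun i => ?_⟩
    · obtain ⟨n, a, V, hV, he⟩ := QuasiCompactCover.exists_isAffineOpen_of_isCompact
        (PreZeroHypercover.singleton.{u} (Sigma.desc E.f)) hU.isCompact
      let V' : Fin n → (∐ E.X).Opens := V
      have hfin : ∀ k, ∃ s : Finset E.I₀,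
          (V' k : Set (∐ E.X :)) ⊆ ⋃ i ∈ s, Set.range (Sigma.ι E.X i) := fun k =>
        (hV k).isCompact.elim_finite_subcover (fun i => Set.range (Sigma.ι E.X i))
          (fun i => (Sigma.ι E.X i).isOpenEmbedding.isOpen_range) fun z _ => by
            obtain ⟨i, w, rfl⟩ : ∃ i w, Sigma.ι E.X i w = z := (sigmaOpenCover E.X).exists_eq z
            exact Set.mem_iUnion.2 ⟨i, w, rfl⟩
      choose s hs using hfin
      have hcl : ∀ i : E.I₀, IsClosed (Set.range (Sigma.ι E.X i)) := fun i => by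
        have : (Set.range (Sigma.ι E.X i))ᶜ = ⋃ (j) (_ : j ≠ i), Set.range (Sigma.ι E.X j) := by
          ext z
          obtain ⟨j, w, rfl⟩ : ∃ j w, Sigma.ι E.X j w = z := (sigmaOpenCover E.X).exists_eq z
          simp only [Set.mem_compl_iff, Set.mem_range, Set.mem_iUnion, not_exists]
          refine ⟨fun h => ⟨j, fun e => ?_, w, rfl⟩, ?_⟩
          · subst e; exact h w rfl
          · rintro ⟨j', hj', w', hw'⟩ v hv
            obtain ⟨rfl, -⟩ := Sigma.mk.inj_iff.1 ((sigmaι_eq_iff E.X _ _ _ _).1 (hw'.trans hv.symm))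
            exact hj' rfl
        rw [← isOpen_compl_iff, this]
        exact isOpen_biUnion fun j _ => (Sigma.ι E.X j).isOpenEmbedding.isOpen_range
      refine ⟨ULift.{u} (Σ k : Fin n, s k), inferInstance, fun p => p.down.2.1,
        fun p => Sigma.ι E.X p.down.2.1 ⁻¹' (V' p.down.1), fun p => ?_, ?_⟩
      · exact (Sigma.ι E.X p.down.2.1).isOpenEmbedding.isInducing.isCompact_preimage
          (hcl _) (hV p.down.1).isCompact
      · rw [← he]
        ext z
        simp only [Set.mem_iUnion, ULift.exists, Sigma.exists, Set.mem_image, Set.mem_preimage]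
        constructor
        · rintro ⟨k, i, x, hx, rfl⟩
          exact ⟨k, Sigma.ι E.X i x, hx, by
            show Sigma.desc E.f (Sigma.ι E.X i x) = _
            rw [← Scheme.Hom.comp_apply, Sigma.ι_desc]⟩
        · rintro ⟨k, x, hx, rfl⟩
          obtain ⟨i, hi, w, rfl⟩ : ∃ i ∈ s k, ∃ w, Sigma.ι E.X i w = x := by simpa using hs k hx
          refine ⟨k, ⟨i, hi⟩, w, hx, ?_⟩
          show E.f i w = Sigma.desc E.f (Sigma.ι E.X i w)
          rw [← Scheme.Hom.comp_apply, Sigma.ι_desc]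
    · have : Flat (Sigma.desc E.f) := hf PUnit.unit
      rw [← Sigma.ι_desc E.f i]
      infer_instance

end Groth.Agent.HTopLib
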