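import Groth.Agent.HTopLib.Cover
import Mathlib.AlgebraicGeometry.Sites.BigZariski

/-!
# The sheaf condition for V coverings: reduction to standard V coverings of affine schemes
-/

set_option autoImplicit false
set_option linter.style.haveILetI false

universe w w' u

open CategoryTheory CategoryTheory.Limits AlgebraicGeometry Topology TopologicalSpace Opposite

namespace Groth.Agent.HTopLib

variable {T : Scheme.{u}}

/-- A finite family can be indexed by some `Fin n`. -/
theorem exists_fin_family (E : PreZeroHypercover.{w} T) [Finite E.I₀] :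
    ∃ E₀ : PreZeroHypercover.{w'} T, Finite E₀.I₀ ∧ E₀.presieve₀ = E.presieve₀ ∧
      (∀ j, ∃ i, E₀.X j = E.X i) ∧ (HTop.HasValLift E → HTop.HasValLift E₀) := by
  obtain ⟨n, ⟨e⟩⟩ := Finite.exists_equiv_fin E.I₀
  let s : ULift.{w'} (Fin n) → E.I₀ := fun k => e.symm k.down
  refine ⟨⟨ULift.{w'} (Fin n), fun k => E.X (s k), fun k => E.f (s k)⟩,
    inferInstanceAs (Finite (ULift.{w'} (Fin n))), ?_, fun j => ⟨s j, rfl⟩, fun h => ?_⟩
  · funext Z
    ext g
    constructor
    · rintro ⟨k⟩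
      exact ⟨s k⟩
    · rintro ⟨i⟩
      obtain ⟨k, rfl⟩ : ∃ k, s k = i := ⟨⟨e i⟩, e.symm_apply_apply i⟩
      exact .mk (ι := ULift.{w'} (Fin n)) k
  · intro V _ _ g
    obtain ⟨W, hW, hW', φ, hφ, i, g', hg'⟩ := h V g
    obtain ⟨k, rfl⟩ : ∃ k, s k = i := ⟨⟨e i⟩, e.symm_apply_apply i⟩
    exact ⟨W, hW, hW', φ, hφ, k, g', hg'⟩

/-- Any standard V covering has the presieve of one indexed in an arbitrary universe. -/
theorem exists_isStandardV_family (E : PreZeroHypercover.{w} T) (hE : HTop.IsStandardV E) :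
    ∃ E₀ : PreZeroHypercover.{w'} T, HTop.IsStandardV E₀ ∧ E₀.presieve₀ = E.presieve₀ := by
  haveI := hE.finite_index
  obtain ⟨E₀, hfin, he, hX, hlift⟩ := exists_fin_family.{w, w'} E
  refine ⟨E₀, ⟨hE.isAffine, hfin, fun j => ?_, hlift hE.lift⟩, he⟩
  obtain ⟨i, hi⟩ := hX j
  haveI := hE.isAffine_obj i
  rw [hi]
  infer_instance

/-- A sieve which, pulled back to any affine scheme, contains a standard V covering. -/
def IsVSieve {X : Scheme.{u}} (S : Sieve X) : Prop :=
  ∀ (W : Scheme.{u}) [IsAffine W] (g : W ⟶ X), ∃ E : PreZeroHypercover.{0} W,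
    HTop.IsStandardV E ∧ ∀ j, S (E.f j ≫ g)

theorem IsVSieve.pullback {X Y : Scheme.{u}} {S : Sieve X} (h : IsVSieve S) (f : Y ⟶ X) :
    IsVSieve (S.pullback f) := fun W _ g => by
  obtain ⟨E, hE, hES⟩ := h W (g ≫ f)
  exact ⟨E, hE, fun j => by
    show S ((E.f j ≫ g) ≫ f)
    rw [Category.assoc]
    exact hES j⟩

theorem isVSieve_of_isVCover {X : Scheme.{u}} {E : PreZeroHypercover.{w} X} (hE : HTop.IsVCover E) :
    IsVSieve (Sieve.generate E.presieve₀) := fun W _ g => by
  obtain ⟨G, hG, hGE⟩ := exists_standard_refining hE g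
  refine ⟨G, hG, fun j => ?_⟩
  obtain ⟨i, l, hl⟩ := hGE j
  exact ⟨E.X i, l, E.f i, ⟨i⟩, hl⟩

theorem isVCover_of_isStandardV {E : PreZeroHypercover.{w} T} (hE : HTop.IsStandardV E) :
    HTop.IsVCover E := by
  intro U
  haveI : IsAffine (U.1 : Scheme.{u}) := U.2
  obtain ⟨G, hG, he⟩ := exists_isStandardV_family.{w, 0} _ (isStandardV_pullback U.1.ι hE)
  refine ⟨G, hG, fun j => ?_⟩
  have hj : (E.pullback₁ U.1.ι).presieve₀ (G.f j) := he ▸ ⟨j⟩
  obtain ⟨i, hi, hij⟩ : ∃ i, ∃ h : G.X j = CategoryTheory.Limits.pullback U.1.ι (E.f i),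
      G.f j = eqToHom h ≫ pullback.fst U.1.ι (E.f i) := by
    generalize G.X j = Z, G.f j = g at hj
    obtain ⟨i⟩ := hj
    exact ⟨i, rfl, (Category.id_comp _).symm⟩
  exact ⟨i, eqToHom hi ≫ pullback.snd _ _, by rw [hij, Category.assoc, Category.assoc, pullback.condition]⟩

variable {F : Scheme.{u}ᵒᵖ ⥤ Type w}

theorem isSeparatedFor_of_isVSieve (hz : Presieve.IsSheaf Scheme.zariskiTopology F)
    (hst : ∀ (W : Scheme.{u}) (E : PreZeroHypercover.{0} W), HTop.IsStandardV E →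
      Presieve.IsSheafFor F E.presieve₀)
    {X : Scheme.{u}} {S : Sieve X} (hS : IsVSieve S) : Presieve.IsSeparatedFor F S.arrows := by
  intro x t₁ t₂ h₁ h₂
  refine (hz.isSeparated _ (Scheme.affineOneHypercover X).mem₀).ext fun Y q hq => ?_
  obtain ⟨Z, a, b, ⟨i⟩, rfl⟩ := hq
  rw [op_comp, Functor.map_comp, ConcreteCategory.comp_apply, ConcreteCategory.comp_apply]
  congr 1
  haveI : IsAffine ((Scheme.affineOneHypercover X).X i) :=
    Scheme.isAffine_affineCover X i
  obtain ⟨E, hE, hES⟩ := hS _ ((Scheme.affineOneHypercover X).f i)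
  refine (hst _ E hE).isSeparatedFor.ext fun V r hr => ?_
  obtain ⟨j⟩ := hr
  rw [← ConcreteCategory.comp_apply, ← ConcreteCategory.comp_apply, ← Functor.map_comp, ← op_comp,
    h₁ _ (hES j), h₂ _ (hES j)]

theorem isSheafFor_of_isVSieve (hz : Presieve.IsSheaf Scheme.zariskiTopology F)
    (hst : ∀ (W : Scheme.{u}) (E : PreZeroHypercover.{0} W), HTop.IsStandardV E →
      Presieve.IsSheafFor F E.presieve₀)
    {X : Scheme.{u}} {S : Sieve X} (hS : IsVSieve S) : Presieve.IsSheafFor F S.arrows := by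
  have aff : ∀ (W : Scheme.{u}) [IsAffine W] {S : Sieve W}, IsVSieve S →
      Presieve.IsSheafFor F S.arrows := by
    intro W _ S hS
    obtain ⟨E, hE, hES⟩ := hS W (𝟙 W)
    refine Presieve.isSheafFor_subsieve_aux F (S := Sieve.generate E.presieve₀) ?_
      ((Presieve.isSheafFor_iff_generate _).mp (hst W E hE)) fun Y f _ => ?_
    · rintro Z _ ⟨Z', a, b, ⟨j⟩, rfl⟩
      exact S.downward_closed (by simpa using hES j) a
    · exact isSeparatedFor_of_isVSieve hz hst
        ((isVSieve_of_isVCover (isVCover_of_isStandardV hE)).pullback f)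
  refine (Scheme.affineOneHypercover X).isSheafFor_sieve_of_pullback hz (fun i => ?_)
    fun i j k => isSeparatedFor_of_isVSieve hz hst (hS.pullback _)
  haveI : IsAffine ((Scheme.affineOneHypercover X).X i) :=
    Scheme.isAffine_affineCover X i
  exact aff _ (hS.pullback _)

theorem isVSheaf_of_zariski_of_standardV (hz : Presieve.IsSheaf Scheme.zariskiTopology F)
    (hst : ∀ (W : Scheme.{u}) (E : PreZeroHypercover.{0} W), HTop.IsStandardV E →
      Presieve.IsSheafFor F E.presieve₀) : HTop.IsVSheaf F := by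
  intro X R hR
  obtain ⟨E, rfl⟩ := R.exists_eq_preZeroHypercover
  exact (Presieve.isSheafFor_iff_generate _).mpr
    (isSheafFor_of_isVSieve hz hst (isVSieve_of_isVCover ((HTop.presieve₀_mem_vPrecoverage_iff E).1 hR)))

theorem isSheaf_zariski_of_isVSheaf (hF : HTop.IsVSheaf F) :
    Presieve.IsSheaf Scheme.zariskiTopology F := by
  rw [Scheme.zariskiTopology, Scheme.grothendieckTopology,
    Precoverage.isSheaf_toGrothendieck_iff_of_isStableUnderBaseChange]
  intro Y R hR
  obtain ⟨(𝒰 : Y.OpenCover), rfl⟩ := Scheme.exists_cover_of_mem_pretopology hR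
  refine hF _ ((HTop.presieve₀_mem_vPrecoverage_iff _).2 (isVCover_of_fpqc _ fun i => ?_))
  haveI : IsOpenImmersion (𝒰.f i) := inferInstance
  infer_instance

theorem isSheafFor_of_singleton_sigmaDesc (hz : Presieve.IsSheaf Scheme.zariskiTopology F)
    {I : Type u} (X : I → Scheme.{u}) (g : ∀ i, X i ⟶ T)
    (h : Presieve.IsSheafFor F (Presieve.singleton (Sigma.desc g))) :
    Presieve.IsSheafFor F (Presieve.ofArrows X g) := by
  rw [Presieve.isSheafFor_singleton] at h
  rw [Presieve.isSheafFor_arrows_iff]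
  intro x hx
  have hσ' : Presieve.IsSheafFor F (Presieve.ofArrows X (Sigma.ι X)) :=
    hz.isSheafFor_of_mem_precoverage (sigmaOpenCover X).mem₀
  have hσ := (Presieve.isSheafFor_arrows_iff _ _).mp hσ'
  have hι : ∀ i, Sigma.ι X i ≫ Sigma.desc g = g i := fun i => Sigma.ι_desc _ _
  obtain ⟨y, hy, hyu⟩ := hσ x fun i j Z a b hab => hx i j Z a b (by
    rw [← hι i, ← hι j, ← Category.assoc, ← Category.assoc]
    exact congrArg (· ≫ Sigma.desc g) hab)
  obtain ⟨t, ht, htu⟩ := h y fun {Z} p₁ p₂ hp => by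
    let W : I × I → Z.Opens := fun ij =>
      p₁ ⁻¹ᵁ ((Sigma.ι X ij.1)).opensRange ⊓ p₂ ⁻¹ᵁ ((Sigma.ι X ij.2)).opensRange
    have hW : IsOpenCover W := by
      rw [IsOpenCover, eq_top_iff]
      intro z _
      rw [Opens.mem_iSup]
      obtain ⟨i, a, ha⟩ := (sigmaOpenCover X).exists_eq (p₁ z)
      obtain ⟨j, b, hb⟩ := (sigmaOpenCover X).exists_eq (p₂ z)
      exact ⟨(i, j), ⟨a, ha⟩, ⟨b, hb⟩⟩
    refine (hz.isSheafFor_of_mem_precoverage
      (Scheme.openCoverOfIsOpenCover Z W hW).mem₀).isSeparatedFor.ext fun V r hr => ?_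
    obtain ⟨⟨i, j⟩⟩ := hr
    have hr₁ : Set.range ((W (i, j)).ι ≫ p₁) ⊆ Set.range (Sigma.ι X i) := by
      rintro _ ⟨a, rfl⟩
      exact a.2.1
    have hr₂ : Set.range ((W (i, j)).ι ≫ p₂) ⊆ Set.range (Sigma.ι X j) := by
      rintro _ ⟨a, rfl⟩
      exact a.2.2
    let a := IsOpenImmersion.lift _ _ hr₁
    let b := IsOpenImmersion.lift _ _ hr₂
    have ha : a ≫ Sigma.ι X i = (W (i, j)).ι ≫ p₁ := IsOpenImmersion.lift_fac _ _ _
    have hb : b ≫ Sigma.ι X j = (W (i, j)).ι ≫ p₂ := IsOpenImmersion.lift_fac _ _ _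
    show F.map (W (i, j)).ι.op (F.map p₁.op y) = F.map (W (i, j)).ι.op (F.map p₂.op y)
    rw [← ConcreteCategory.comp_apply, ← ConcreteCategory.comp_apply, ← Functor.map_comp,
      ← Functor.map_comp, ← op_comp, ← op_comp, ← ha, ← hb, op_comp, op_comp, Functor.map_comp,
      Functor.map_comp, ConcreteCategory.comp_apply, ConcreteCategory.comp_apply, hy i, hy j]
    refine hx i j _ a b ?_
    rw [← hι i, ← hι j, reassoc_of% ha, reassoc_of% hb, hp]
  refine ⟨t, fun i => ?_, fun t' ht' => htu t' (hyu _ fun i => ?_)⟩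
  · rw [← hι i, op_comp, Functor.map_comp, ConcreteCategory.comp_apply, ht]
    exact hy i
  · rw [← ConcreteCategory.comp_apply, ← Functor.map_comp, ← op_comp, hι]
    exact ht' i

end Groth.Agent.HTopLib
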