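import Groth.Agent.HTopLib.Cover
import Mathlib.AlgebraicGeometry.AffineTransitionLimit
import Mathlib.CategoryTheory.Limits.Constructions.Over.Connected

/-!
# Standard V coverings and limits of affine schemes
-/

set_option autoImplicit false
set_option linter.style.haveILetI false

universe w u

open CategoryTheory CategoryTheory.Limits AlgebraicGeometry Topology TopologicalSpace IsLocalRing

namespace Groth.Agent.HTopLib

/-- Over a valuation ring, some pair of primes lies over the closed and the generic point unless an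
element is killed by a nonzero scalar and congruent to `1` modulo the maximal ideal. -/
theorem exists_primes_of_no_obstruction {V A : Type u} [CommRing V] [IsDomain V] [IsLocalRing V]
    [CommRing A] (ρ : V →+* A)
    (h : ∀ (a : A) (s : V), s ≠ 0 → ρ s * a = 0 → 1 - a ∉ (maximalIdeal V).map ρ) :
    ∃ q p : PrimeSpectrum A, q.asIdeal ≤ p.asIdeal ∧ p.asIdeal.comap ρ = maximalIdeal V ∧
      q.asIdeal.comap ρ = ⊥ := by
  let K : Ideal A :=
    { carrier := {a | ∃ s : V, s ≠ 0 ∧ ρ s * a = 0}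
      zero_mem' := ⟨1, one_ne_zero, by simp⟩
      add_mem' := by
        rintro a b ⟨s, hs, ha⟩ ⟨t, ht, hb⟩
        refine ⟨s * t, mul_ne_zero hs ht, ?_⟩
        linear_combination (ρ t) * ha + (ρ s) * hb + (ρ.map_mul s t) * (a + b)
      smul_mem' := by
        rintro r a ⟨s, hs, ha⟩
        exact ⟨s, hs, by rw [smul_eq_mul]; linear_combination r * ha⟩ }
  have hne : K ⊔ (maximalIdeal V).map ρ ≠ ⊤ := by
    intro he
    obtain ⟨a, ⟨s, hs, ha⟩, b, hb, hab⟩ := Submodule.mem_sup.1 ((Ideal.eq_top_iff_one _).1 he)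
    exact h a s hs ha (by rw [← hab]; simpa using hb)
  obtain ⟨p, hp, hle⟩ := Ideal.exists_le_maximal _ hne
  have hpm : p.comap ρ = maximalIdeal V := by
    refine (le_antisymm ?_ ?_).symm
    · exact Ideal.map_le_iff_le_comap.1 (le_sup_right.trans hle)
    · exact IsLocalRing.le_maximalIdeal (Ideal.comap_ne_top ρ hp.ne_top)
  haveI := hp.isPrime
  let M : Submonoid A := (nonZeroDivisors V).map ρ ⊔ p.primeCompl
  have hM : Disjoint ((⊥ : Ideal A) : Set A) M := by
    rw [Set.disjoint_left]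
    intro x hx hxM
    obtain rfl : x = 0 := hx
    obtain ⟨_, ⟨s, hs, rfl⟩, t, ht, hst⟩ := Submonoid.mem_sup.1 hxM
    exact ht (hle (Submodule.mem_sup_left ⟨s, nonZeroDivisors.ne_zero hs, hst⟩))
  obtain ⟨q, hq, -, hqM⟩ := Ideal.exists_le_prime_disjoint ⊥ M hM
  refine ⟨⟨q, hq⟩, ⟨p, hp.isPrime⟩, fun x hx => ?_, hpm, ?_⟩
  · by_contra hxp
    exact Set.disjoint_left.1 hqM hx (Submonoid.mem_sup_right hxp)
  · refine eq_bot_iff.2 fun v hv => ?_
    by_contra hv0
    exact Set.disjoint_left.1 hqM hv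
      (Submonoid.mem_sup_left ⟨v, mem_nonZeroDivisors_of_ne_zero hv0, rfl⟩)

variable {Y : Scheme.{u}} [IsAffine Y] {I : Type u} [SmallCategory I] [IsCofiltered I] (D : I ⥤ Over Y)
  [∀ i, IsAffine (D.obj i).left] (c : Cone D) (hc : IsLimit ((Over.forget Y).mapCone c))

attribute [local instance] IsCofiltered.isConnected in
include hc in
theorem hasValLift_of_limit
    (h : ∀ i, HTop.HasValLift (PreZeroHypercover.singleton.{w} (D.obj i).hom)) :
    HTop.HasValLift (PreZeroHypercover.singleton.{w} c.pt.hom) := by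
  refine hasValLift_of_pairs _ fun V _ _ g => ⟨PUnit.unit, ?_⟩
  show ∃ z z' : ↥(pullback c.pt.hom g), z' ⤳ z ∧
    pullback.snd c.pt.hom g z = closedPoint V ∧ pullback.snd c.pt.hom g z' = SubtrLib.gen V
  let E := Over.pullback g ⋙ Over.forget (Spec V)
  let D' : I ⥤ Scheme.{u} := D ⋙ E
  let c' : Cone D' := E.mapCone c
  let hc' : IsLimit c' := isLimitOfPreserves E (isLimitOfReflects (Over.forget Y) hc)
  haveI hDa : ∀ i, IsAffine (D'.obj i) := fun i =>
    inferInstanceAs (IsAffine (pullback (D.obj i).hom g))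
  haveI : ∀ i, IsAffine ((D ⋙ Over.forget Y).obj i) := fun i => inferInstanceAs (IsAffine (D.obj i).left)
  haveI : IsAffine c.pt.left := Scheme.isAffine_of_isLimit (I := I) _ hc
  haveI : IsAffine (pullback c.pt.hom g) := inferInstance
  let π : ∀ i, pullback c.pt.hom g ⟶ pullback (D.obj i).hom g := fun i => c'.π.app i
  let q : ∀ i, pullback (D.obj i).hom g ⟶ Spec V := fun i => pullback.snd _ _
  let σ : Γ(Spec V, ⊤) ⟶ Γ(pullback c.pt.hom g, ⊤) := (pullback.snd c.pt.hom g).appTop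
  let ρ : V →+* Γ(pullback c.pt.hom g, ⊤) :=
    σ.hom.comp (Scheme.ΓSpecIso V).inv.hom
  let ρi : ∀ i, V →+* Γ(pullback (D.obj i).hom g, ⊤) := fun i =>
    (q i).appTop.hom.comp (Scheme.ΓSpecIso V).inv.hom
  have hπ : ∀ i, π i ≫ q i = pullback.snd c.pt.hom g := fun i => pullback.lift_snd _ _ _
  have hρ : ∀ i v, (π i).appTop (ρi i v) = ρ v := fun i v => by
    show ((q i).appTop ≫ (π i).appTop) _ = _
    rw [← Scheme.Hom.comp_appTop, hπ]
    rfl
  have tr : ∀ {i j : I} (f : i ⟶ j), ∃ t : pullback (D.obj i).hom g ⟶ pullback (D.obj j).hom g,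
      t = D'.map f ∧ π i ≫ t = π j ∧ t ≫ q j = q i := fun f =>
    ⟨D'.map f, rfl, c'.w f, pullback.lift_snd _ _ _⟩
  have hmap : ∀ {i j : I} (t : pullback (D.obj i).hom g ⟶ pullback (D.obj j).hom g), t ≫ q j = q i →
      ∀ b ∈ (maximalIdeal V).map (ρi j), t.appTop b ∈ (maximalIdeal V).map (ρi i) := by
    intro i j t htq b hb
    have h1 := Ideal.mem_map_of_mem t.appTop.hom hb
    rw [Ideal.map_map] at h1
    have e : t.appTop.hom.comp (ρi j) = ρi i := by
      show ((t.appTop).hom.comp (q j).appTop.hom).comp _ = _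
      rw [← CommRingCat.hom_comp, ← Scheme.Hom.comp_appTop, htq]
    rw [e] at h1
    exact h1
  have hcomp : ∀ {i j : I} (t : pullback (D.obj i).hom g ⟶ pullback (D.obj j).hom g), π i ≫ t = π j →
      ∀ b, (π i).appTop (t.appTop b) = (π j).appTop b := fun t ht b => by
    rw [← ConcreteCategory.comp_apply, ← Scheme.Hom.comp_appTop, ht]
  have hsec : ∀ x : Γ(pullback c.pt.hom g, ⊤), ∃ (i : I) (b : Γ(pullback (D.obj i).hom g, ⊤)),
      (π i).appTop b = x := fun x => exists_appTop_π_eq_of_isAffine_of_isLimit D' c' hc' x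
  have hzero : ∀ {i : I} (b : Γ(pullback (D.obj i).hom g, ⊤)), (π i).appTop b = 0 →
      ∃ (k : I) (t : pullback (D.obj k).hom g ⟶ pullback (D.obj i).hom g),
        π k ≫ t = π i ∧ t ≫ q i = q k ∧ t.appTop b = 0 := fun b hb => by
    obtain ⟨k, f, hf⟩ := exists_appTop_map_eq_zero_of_isAffine_of_isLimit D' c' hc' _ b hb
    obtain ⟨t, rfl, ht, htq⟩ := tr f
    exact ⟨k, _, ht, htq, hf⟩
  obtain ⟨q₀, p, hle, hp, hq⟩ := exists_primes_of_no_obstruction ρ (fun a s hs ha hmem => by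
    obtain ⟨i₁, a₁, rfl⟩ := hsec a
    -- descend the membership
    have key : ∀ x ∈ (maximalIdeal V).map ρ, ∃ (i : I) (b : Γ(pullback (D.obj i).hom g, ⊤)),
        b ∈ (maximalIdeal V).map (ρi i) ∧ (π i).appTop b = x := by
      intro x hx
      rw [Ideal.map] at hx
      induction hx using Submodule.span_induction with
      | mem x hx =>
        obtain ⟨v, hv, rfl⟩ := hx
        exact ⟨i₁, ρi i₁ v, Ideal.mem_map_of_mem _ hv, hρ i₁ v⟩
      | zero => exact ⟨i₁, 0, zero_mem _, map_zero _⟩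
      | add x y _ _ ihx ihy =>
        obtain ⟨i, b, hb, rfl⟩ := ihx
        obtain ⟨j, b', hb', rfl⟩ := ihy
        obtain ⟨t, -, ht, htq⟩ := tr (IsCofiltered.minToLeft i j)
        obtain ⟨t', -, ht', htq'⟩ := tr (IsCofiltered.minToRight i j)
        exact ⟨_, t.appTop b + t'.appTop b', add_mem (hmap t htq b hb) (hmap t' htq' b' hb'),
          by rw [map_add, hcomp t ht, hcomp t' ht']⟩
      | smul r x _ ihx =>
        obtain ⟨i, b, hb, rfl⟩ := ihx
        obtain ⟨j, r', rfl⟩ := hsec r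
        obtain ⟨t, -, ht, htq⟩ := tr (IsCofiltered.minToLeft i j)
        obtain ⟨t', -, ht', -⟩ := tr (IsCofiltered.minToRight i j)
        exact ⟨_, t'.appTop r' * t.appTop b, Ideal.mul_mem_left _ _ (hmap t htq b hb),
          by rw [map_mul, hcomp t ht, hcomp t' ht', smul_eq_mul]⟩
    obtain ⟨i₂, b, hb, hbx⟩ := key _ hmem
    obtain ⟨t₁, -, ht₁, htq₁⟩ := tr (IsCofiltered.minToLeft i₁ i₂)
    obtain ⟨t₂, -, ht₂, htq₂⟩ := tr (IsCofiltered.minToRight i₁ i₂)
    let j := IsCofiltered.min i₁ i₂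
    let a₂ : Γ(pullback (D.obj j).hom g, ⊤) := t₁.appTop a₁
    let b₂ : Γ(pullback (D.obj j).hom g, ⊤) := t₂.appTop b
    have ha₂ : (π j).appTop a₂ = (π i₁).appTop a₁ := hcomp t₁ ht₁ a₁
    have hb₂ : (π j).appTop b₂ = 1 - (π i₁).appTop a₁ := (hcomp t₂ ht₂ b).trans hbx
    have hmem₂ : b₂ ∈ (maximalIdeal V).map (ρi j) := hmap t₂ htq₂ b hb
    obtain ⟨k₁, u₁, hπ₁, hu₁q, hu₁⟩ := hzero (i := j) (ρi j s * a₂) (by
      rw [map_mul, hρ, ha₂]; exact ha)
    obtain ⟨k, u₂, hπ₂, hu₂q, hu₂⟩ := hzero (i := k₁) (u₁.appTop (1 - a₂ - b₂)) (by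
      rw [hcomp u₁ hπ₁, map_sub, map_sub, map_one, ha₂, hb₂, sub_self])
    let u := u₂ ≫ u₁
    have huq : u ≫ q j = q k := by rw [Category.assoc, hu₁q, hu₂q]
    have e₁ : u.appTop (ρi j s * a₂) = 0 := by
      rw [Scheme.Hom.comp_appTop, ConcreteCategory.comp_apply, hu₁, map_zero]
    have e₂ : u.appTop (1 - a₂ - b₂) = 0 := by
      rw [Scheme.Hom.comp_appTop, ConcreteCategory.comp_apply, hu₂]
    -- no lift at the stage `k`
    obtain ⟨W, _, _, φ, hφ, _, g', hg'⟩ := h k V g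
    let G : Spec W ⟶ pullback (D.obj k).hom g := pullback.lift g' (Spec.map φ) hg'
    let θ : Γ(pullback (D.obj j).hom g, ⊤) →+* W :=
      ((Scheme.ΓSpecIso W).hom.hom.comp G.appTop.hom).comp u.appTop.hom
    have hθ : θ.comp (ρi j) = φ.hom := by
      ext v
      show (Scheme.ΓSpecIso W).hom (((q j).appTop ≫ u.appTop ≫ G.appTop) ((Scheme.ΓSpecIso V).inv v)) = φ v
      rw [← Scheme.Hom.comp_appTop, ← Scheme.Hom.comp_appTop, Category.assoc, huq,
        show G ≫ q k = Spec.map φ from pullback.lift_snd _ _ _, ← ConcreteCategory.comp_apply,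
        ← ConcreteCategory.comp_apply, ← Category.assoc, ← Scheme.ΓSpecIso_inv_naturality,
        Category.assoc, Iso.inv_hom_id, Category.comp_id]
    have ha0 : θ a₂ = 0 := by
      have h0 : φ.hom s * θ a₂ = 0 := by
        rw [← hθ, RingHom.comp_apply, ← map_mul]
        show (Scheme.ΓSpecIso W).hom.hom (G.appTop (u.appTop _)) = 0
        rw [e₁, map_zero, map_zero]
      exact (mul_eq_zero.1 h0).resolve_left fun h0 => hs (hφ.1 (h0.trans (map_zero _).symm))
    have hb1 : θ b₂ = 1 := by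
      have : θ (1 - a₂ - b₂) = 0 := by
        show (Scheme.ΓSpecIso W).hom.hom (G.appTop (u.appTop _)) = 0
        rw [e₂, map_zero, map_zero]
      rw [map_sub, map_sub, map_one, ha0, sub_zero, sub_eq_zero] at this
      exact this.symm
    have h1 : θ b₂ ∈ maximalIdeal W := by
      have hle : (maximalIdeal V).map (ρi j) ≤ (maximalIdeal W).comap θ := by
        rw [Ideal.map_le_iff_le_comap]
        intro v hv
        rw [Ideal.mem_comap, Ideal.mem_comap, ← RingHom.comp_apply, hθ]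
        haveI := hφ.2
        exact map_nonunit φ.hom v hv
      exact hle hmem₂
    rw [hb1] at h1
    exact (maximalIdeal.isMaximal W).ne_top ((Ideal.eq_top_iff_one _).2 h1))
  let P := pullback c.pt.hom g
  let pS : ↥(Spec Γ(P, ⊤)) := p
  let qS : ↥(Spec Γ(P, ⊤)) := q₀
  refine ⟨P.isoSpec.inv pS, P.isoSpec.inv qS,
    ((PrimeSpectrum.le_iff_specializes q₀ p).1 hle).map P.isoSpec.inv.continuous, ?_, ?_⟩
  · show (P.isoSpec.inv ≫ pullback.snd c.pt.hom g) pS = _
    rw [← Scheme.isoSpec_inv_naturality, Scheme.isoSpec_Spec_inv, ← Spec.map_comp]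
    exact PrimeSpectrum.ext hp
  · show (P.isoSpec.inv ≫ pullback.snd c.pt.hom g) qS = _
    rw [← Scheme.isoSpec_inv_naturality, Scheme.isoSpec_Spec_inv, ← Spec.map_comp]
    exact PrimeSpectrum.ext hq

omit [IsAffine Y] [IsCofiltered I] [∀ i, IsAffine (D.obj i).left] in
theorem hasValLift_of_cone (h : HTop.HasValLift (PreZeroHypercover.singleton.{w} c.pt.hom)) (i : I) :
    HTop.HasValLift (PreZeroHypercover.singleton.{w} (D.obj i).hom) := by
  intro V _ _ g
  obtain ⟨W, hW, hW', φ, hφ, _, g', hg'⟩ := h V g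
  let g'' : Spec W ⟶ c.pt.left := g'
  have hg'' : g'' ≫ c.pt.hom = Spec.map φ ≫ g := hg'
  refine ⟨W, hW, hW', φ, hφ, PUnit.unit, g'' ≫ (c.π.app i).left, ?_⟩
  show (g'' ≫ (c.π.app i).left) ≫ (D.obj i).hom = _
  rw [Category.assoc, Over.w (c.π.app i)]
  exact hg''

end Groth.Agent.HTopLib
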