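import Groth.Agent.HTopLib.Sheaf

/-!
# The sheaf condition for ph coverings from Zariski and proper surjective maps
-/

set_option autoImplicit false
set_option linter.style.haveILetI false

universe w w' u

open CategoryTheory CategoryTheory.Limits AlgebraicGeometry Topology TopologicalSpace Opposite

namespace Groth.Agent.HTopLib

variable {T : Scheme.{u}} {F : Scheme.{u}ᵒᵖ ⥤ Type w}

/-- Being a sheaf for a sieve can be checked on the members of an open cover, given separatedness. -/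
theorem isSheafFor_of_openCover (hz : Presieve.IsSheaf Scheme.zariskiTopology F) (𝒰 : Scheme.OpenCover.{u} T)
    {S : Sieve T} (h₁ : ∀ i, Presieve.IsSheafFor F (S.pullback (𝒰.f i)).arrows)
    (h₂ : ∀ {Y : Scheme.{u}} (f : Y ⟶ T), Presieve.IsSeparatedFor F (S.pullback f).arrows) :
    Presieve.IsSheafFor F S.arrows := by
  let H : Scheme.zariskiTopology.OneHypercover T :=
    .mk' (𝒰.refineOneHypercover fun i j ↦
        (pullback (𝒰.f i) (𝒰.f j)).affineCover.toPreZeroHypercover)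
      𝒰.mem_grothendieckTopology
      fun i j ↦ (PreZeroHypercover.sieve₁'_refineOneHypercover _ _ i j).symm ▸
        Scheme.Cover.mem_grothendieckTopology (pullback (𝒰.f i) (𝒰.f j)).affineCover
  exact H.isSheafFor_sieve_of_pullback hz h₁ fun _ _ _ => h₂ _

/-- A sheaf for a single arrow is a sheaf for its restrictions to an open cover of its source. -/
theorem isSheafFor_of_singleton_cover (hz : Presieve.IsSheaf Scheme.zariskiTopology F) {U : Scheme.{u}}
    (f : U ⟶ T) (h : Presieve.IsSheafFor F (Presieve.singleton f)) {I : Type*} (X : I → Scheme.{u})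
    (ι : ∀ i, X i ⟶ U) [∀ i, IsOpenImmersion (ι i)] (hcov : ∀ x : U, ∃ i, x ∈ Set.range (ι i))
    (g : ∀ i, X i ⟶ T) (hg : ∀ i, ι i ≫ f = g i) :
    Presieve.IsSheafFor F (Presieve.ofArrows X g) := by
  rw [Presieve.isSheafFor_singleton] at h
  rw [Presieve.isSheafFor_arrows_iff]
  intro x hx
  have hσ' : Presieve.IsSheafFor F (Presieve.ofArrows X ι) :=
    hz.isSheafFor_of_mem_precoverage
      ((Scheme.ofArrows_mem_precoverage_iff _).2 ⟨hcov, fun i => inferInstance⟩)
  obtain ⟨y, hy, hyu⟩ := (Presieve.isSheafFor_arrows_iff _ _).mp hσ' x fun i j Z a b hab =>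
    hx i j Z a b (by rw [← hg i, ← hg j, reassoc_of% hab])
  obtain ⟨t, ht, htu⟩ := h y fun {Z} p₁ p₂ hp => by
    let W : I × I → Z.Opens := fun ij => p₁ ⁻¹ᵁ (ι ij.1).opensRange ⊓ p₂ ⁻¹ᵁ (ι ij.2).opensRange
    have hcovW : ∀ z : Z, ∃ ij, z ∈ Set.range (W ij).ι := by
      intro z
      obtain ⟨i, hi⟩ := hcov (p₁ z)
      obtain ⟨j, hj⟩ := hcov (p₂ z)
      exact ⟨(i, j), by rw [Scheme.Opens.range_ι]; exact ⟨hi, hj⟩⟩
    refine (hz.isSheafFor_of_mem_precoverage (R := Presieve.ofArrows (fun ij => (W ij).toScheme)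
      fun ij => (W ij).ι) ((Scheme.ofArrows_mem_precoverage_iff _).2
        ⟨hcovW, fun _ => inferInstance⟩)).isSeparatedFor.ext fun V r hr => ?_
    obtain ⟨⟨i, j⟩⟩ := hr
    have hr₁ : Set.range ((W (i, j)).ι ≫ p₁) ⊆ Set.range (ι i) := by
      rintro _ ⟨a, rfl⟩
      exact a.2.1
    have hr₂ : Set.range ((W (i, j)).ι ≫ p₂) ⊆ Set.range (ι j) := by
      rintro _ ⟨a, rfl⟩
      exact a.2.2
    let a := IsOpenImmersion.lift _ _ hr₁
    let b := IsOpenImmersion.lift _ _ hr₂
    have ha : a ≫ ι i = (W (i, j)).ι ≫ p₁ := IsOpenImmersion.lift_fac _ _ _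
    have hb : b ≫ ι j = (W (i, j)).ι ≫ p₂ := IsOpenImmersion.lift_fac _ _ _
    rw [← ConcreteCategory.comp_apply, ← ConcreteCategory.comp_apply, ← Functor.map_comp,
      ← Functor.map_comp, ← op_comp, ← op_comp, ← ha, ← hb, op_comp, op_comp, Functor.map_comp,
      Functor.map_comp, ConcreteCategory.comp_apply, ConcreteCategory.comp_apply, hy i, hy j]
    refine hx i j _ a b ?_
    rw [← hg i, ← hg j, reassoc_of% ha, reassoc_of% hb, hp]
  refine ⟨t, fun i => ?_, fun t' ht' => htu t' (hyu _ fun i => ?_)⟩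
  · rw [← hg i, op_comp, Functor.map_comp, ConcreteCategory.comp_apply, ht]
    exact hy i
  · rw [← ConcreteCategory.comp_apply, ← Functor.map_comp, ← op_comp, hg]
    exact ht' i

/-- A sieve which, locally on any scheme mapping to the target, contains a standard ph covering. -/
def IsPhSieve {X : Scheme.{u}} (S : Sieve X) : Prop :=
  ∀ (W : Scheme.{u}) (g : W ⟶ X) (p : W), ∃ V : W.Opens, IsAffineOpen V ∧ p ∈ V ∧
    ∃ E : PreZeroHypercover.{0} V.toScheme, HTop.IsStandardPh E ∧ ∀ j, S (E.f j ≫ V.ι ≫ g)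

theorem IsPhSieve.pullback {X Y : Scheme.{u}} {S : Sieve X} (h : IsPhSieve S) (f : Y ⟶ X) :
    IsPhSieve (S.pullback f) := fun W g p => by
  obtain ⟨V, hV, hp, E, hE, hES⟩ := h W (g ≫ f) p
  exact ⟨V, hV, hp, E, hE, fun j => by
    show S ((E.f j ≫ V.ι ≫ g) ≫ f)
    simp only [Category.assoc]
    exact hES j⟩

theorem isPhSieve_of_isStandardPh {E : PreZeroHypercover.{0} T} (hE : HTop.IsStandardPh E) :
    IsPhSieve (Sieve.generate E.presieve₀) := fun W g p => by
  obtain ⟨V, hV, hp, -⟩ := exists_isAffineOpen_mem_and_subset (Opens.mem_top p)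
  haveI : IsAffine V.toScheme := hV
  exact ⟨V, hV, hp, E.pullback₁ (V.ι ≫ g), isStandardPh_pullback _ hE, fun j =>
    ⟨E.X j, pullback.snd (V.ι ≫ g) (E.f j), E.f j, ⟨j⟩, pullback.condition.symm⟩⟩

theorem isPhSieve_of_isPhCover {X : Scheme.{u}} {E : PreZeroHypercover.{w'} X} (hE : HTop.IsPhCover E) :
    IsPhSieve (Sieve.generate E.presieve₀) := fun W g p => by
  obtain ⟨U, hU, hgU, -⟩ := exists_isAffineOpen_mem_and_subset (Opens.mem_top (g p))
  obtain ⟨G, hG, hGE⟩ := hE.2 ⟨U, hU⟩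
  obtain ⟨V, hV, hp, hle⟩ := exists_isAffineOpen_mem_and_subset (U := g ⁻¹ᵁ U) hgU
  haveI : IsAffine V.toScheme := hV
  refine ⟨V, hV, hp, G.pullback₁ (g.resLE U V hle), isStandardPh_pullback _ hG, fun j => ?_⟩
  obtain ⟨i, l, hl⟩ := hGE j
  refine ⟨E.X i, pullback.snd (g.resLE U V hle) (G.f j) ≫ l, E.f i, ⟨i⟩, ?_⟩
  show (pullback.snd (g.resLE U V hle) (G.f j) ≫ l) ≫ E.f i = pullback.fst _ _ ≫ V.ι ≫ g
  rw [Category.assoc, hl, ← pullback.condition_assoc]
  exact congrArg (pullback.fst _ _ ≫ ·) (Scheme.Hom.resLE_comp_ι _ _)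

theorem isSheafFor_of_isStandardPh (hz : Presieve.IsSheaf Scheme.zariskiTopology F)
    (hp : ∀ (U V : Scheme.{u}) (f : V ⟶ U), IsProper f → Surjective f →
      Presieve.IsSheafFor F (Presieve.singleton f))
    {E : PreZeroHypercover.{0} T} (hE : HTop.IsStandardPh E) : Presieve.IsSheafFor F E.presieve₀ := by
  obtain ⟨U, f, ι, hf, hs, hι, hfac, hcov⟩ := hE.exists_proper
  exact isSheafFor_of_singleton_cover hz f (hp _ _ f hf hs) E.X ι hcov E.f hfac

theorem isSeparatedFor_of_isPhSieve (hz : Presieve.IsSheaf Scheme.zariskiTopology F)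
    (hp : ∀ (U V : Scheme.{u}) (f : V ⟶ U), IsProper f → Surjective f →
      Presieve.IsSheafFor F (Presieve.singleton f))
    {X : Scheme.{u}} {S : Sieve X} (hS : IsPhSieve S) : Presieve.IsSeparatedFor F S.arrows := by
  intro x t₁ t₂ h₁ h₂
  choose V hV hmem E hE hES using hS X (𝟙 X)
  refine (hz.isSheafFor_of_mem_precoverage (R := Presieve.ofArrows (fun p => (V p).toScheme)
    fun p => (V p).ι) ((Scheme.ofArrows_mem_precoverage_iff _).2
      ⟨fun p => ⟨p, by rw [Scheme.Opens.range_ι]; exact hmem p⟩,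
        fun _ => inferInstance⟩)).isSeparatedFor.ext fun Y r hr => ?_
  obtain ⟨p⟩ := hr
  refine (isSheafFor_of_isStandardPh hz hp (hE p)).isSeparatedFor.ext fun Z r hr => ?_
  obtain ⟨j⟩ := hr
  have hj : S ((E p).f j ≫ (V p).ι) := by simpa using hES p j
  rw [← ConcreteCategory.comp_apply, ← ConcreteCategory.comp_apply, ← Functor.map_comp, ← op_comp,
    h₁ _ hj, h₂ _ hj]

theorem isSheafFor_of_isPhSieve (hz : Presieve.IsSheaf Scheme.zariskiTopology F)
    (hp : ∀ (U V : Scheme.{u}) (f : V ⟶ U), IsProper f → Surjective f →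
      Presieve.IsSheafFor F (Presieve.singleton f))
    {X : Scheme.{u}} {S : Sieve X} (hS : IsPhSieve S) : Presieve.IsSheafFor F S.arrows := by
  choose V hV hmem E hE hES using hS X (𝟙 X)
  refine isSheafFor_of_openCover hz (Scheme.openCoverOfIsOpenCover X V
    (eq_top_iff.2 fun p _ => Opens.mem_iSup.2 ⟨p, hmem p⟩)) (fun p => ?_)
      fun f => isSeparatedFor_of_isPhSieve hz hp (hS.pullback f)
  refine Presieve.isSheafFor_subsieve_aux F (S := Sieve.generate (E p).presieve₀) ?_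
    ((Presieve.isSheafFor_iff_generate _).mp (isSheafFor_of_isStandardPh hz hp (hE p))) fun Y f _ =>
      isSeparatedFor_of_isPhSieve hz hp ((isPhSieve_of_isStandardPh (hE p)).pullback f)
  rintro Z _ ⟨Z', a, b, ⟨j⟩, rfl⟩
  show S ((a ≫ (E p).f j) ≫ (V p).ι)
  rw [Category.assoc]
  exact S.downward_closed (by simpa using hES p j) a

theorem isPhSheaf_of_zariski_of_proper (hz : Presieve.IsSheaf Scheme.zariskiTopology F)
    (hp : ∀ (U V : Scheme.{u}) (f : V ⟶ U), IsProper f → Surjective f →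
      Presieve.IsSheafFor F (Presieve.singleton f)) : HTop.IsPhSheaf F := by
  intro X R hR
  obtain ⟨E, rfl⟩ := R.exists_eq_preZeroHypercover
  exact (Presieve.isSheafFor_iff_generate _).mpr
    (isSheafFor_of_isPhSieve hz hp (isPhSieve_of_isPhCover ((HTop.presieve₀_mem_phPrecoverage_iff E).1 hR)))

end Groth.Agent.HTopLib
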