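import Groth.Agent.HTopLib.Cover

/-!
# ph coverings by proper surjective maps; sheaves and covering monomorphisms
-/

set_option autoImplicit false
set_option linter.style.haveILetI false

universe w w' u

open CategoryTheory CategoryTheory.Limits AlgebraicGeometry Topology TopologicalSpace Opposite

namespace Groth.Agent.HTopLib

theorem isPhCover_of_proper {X Y : Scheme.{u}} (f : Y ⟶ X) [IsProper f] [Surjective f] :
    HTop.IsPhCover (PreZeroHypercover.singleton.{w} f) := by
  refine ⟨fun _ => inferInstanceAs (LocallyOfFiniteType f), fun U => ?_⟩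
  haveI : IsAffine (U.1 : Scheme.{u}) := U.2
  haveI : Surjective (f ∣_ U.1) := IsZariskiLocalAtTarget.restrict (P := @Surjective) ‹_› _
  haveI : IsProper (f ∣_ U.1) := IsZariskiLocalAtTarget.restrict (P := @IsProper) ‹_› _
  obtain ⟨F, hF, hfac⟩ := exists_isStandardPh_of_proper (f ∣_ U.1)
  refine ⟨F, hF, fun j => ?_⟩
  obtain ⟨l, hl⟩ := hfac j
  refine ⟨PUnit.unit, l ≫ (f ⁻¹ᵁ U.1).ι, ?_⟩
  show (l ≫ (f ⁻¹ᵁ U.1).ι) ≫ f = F.f j ≫ U.1.ι
  rw [Category.assoc, ← morphismRestrict_ι, reassoc_of% hl]

/-- A sheaf for a topology on schemes over `S` takes the same sections on both ends of a monomorphism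
which, alone, generates a covering sieve. -/
theorem bijective_map_of_mono_covering {S : Scheme.{u}} {K : Precoverage Scheme.{u}}
    (F : (Over S)ᵒᵖ ⥤ Type w) (hF : Presieve.IsSheaf (K.toGrothendieck.over S) F) {X X' : Over S}
    (f : X ⟶ X') [Mono f] (hf : Presieve.singleton f.left ∈ K X'.left) :
    Function.Bijective (F.map f.op) := by
  have hmem : Sieve.generate (Presieve.singleton f) ∈ (K.toGrothendieck.over S) X' := by
    rw [GrothendieckTopology.mem_over_iff, Sieve.overEquiv_generate]
    refine K.toGrothendieck.superset_covering ?_ (K.generate_mem_toGrothendieck hf)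
    rw [Sieve.generate_le_iff]
    rintro _ _ ⟨⟩
    exact Sieve.le_generate _ _ _ ⟨X, f, 𝟙 _, ⟨⟩, (Category.id_comp _).symm⟩
  have h := (Presieve.isSheafFor_iff_generate _).mpr (hF _ hmem)
  rw [Presieve.isSheafFor_singleton] at h
  rw [Function.bijective_iff_existsUnique]
  exact fun x => h x fun {Z} p₁ p₂ hp => by rw [(cancel_mono f).1 hp]

end Groth.Agent.HTopLib
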